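import Cfsg.Agent.Bimonster.Main

/-! # The Bimonster as presented in the prelude, and the final theorem -/

set_option autoImplicit false
set_option linter.unusedVariables false
set_option linter.constructorNameAsVariable false
set_option linter.unusedSectionVars false

namespace Cfsg.Agent.Bimonster

open Tits Cfsg.Spor
open scoped commutatorElement

/-- the letters -/
def biGen : ℕ → Spor.Bimonster.Gen
  | 0 => .a
  | 1 => .b1
  | 2 => .c1
  | 3 => .d1
  | 4 => .e1
  | 5 => .f1
  | 6 => .b2
  | 7 => .c2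
  | 8 => .d2
  | 9 => .e2
  | 10 => .f2
  | 11 => .b3
  | 12 => .c3
  | 13 => .d3
  | 14 => .e3
  | _ => .f3

/-- numbers of the generators -/
def biIdx : Spor.Bimonster.Gen → ℕ
  | .a => 0
  | .b1 => 1
  | .c1 => 2
  | .d1 => 3
  | .e1 => 4
  | .f1 => 5
  | .b2 => 6
  | .c2 => 7
  | .d2 => 8
  | .e2 => 9
  | .f2 => 10
  | .b3 => 11
  | .c3 => 12
  | .d3 => 13
  | .e3 => 14
  | .f3 => 15

theorem biIdx_lt (g : Spor.Bimonster.Gen) : biIdx g < 16 := by cases g <;> decide

theorem biGen_idx (g : Spor.Bimonster.Gen) : biGen (biIdx g) = g := by cases g <;> rfl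

theorem biIdx_gen : ∀ i < 16, biIdx (biGen i) = i := by decide

/-- the nodes of the Bimonster -/
def tB (i : ℕ) : Spor.Bimonster := PresentedGroup.of (biGen i)

theorem bi_label (g k : Spor.Bimonster.Gen) :
    (g = k ∧ coxLabel Spor.Bimonster.edges g k = 1) ∨
      (adjB (biIdx g) (biIdx k) = true ∧ coxLabel Spor.Bimonster.edges g k = 3) ∨
      (adjB (biIdx g) (biIdx k) = false ∧ coxLabel Spor.Bimonster.edges g k = 2) := by
  cases g <;> cases k <;> decide

theorem bi_nodes (g : Spor.Bimonster.Gen) : g ∈ coxNodes Spor.Bimonster.edges := by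
  cases g <;> decide

theorem bi_univ {Q : Type*} [Group Q] {v : ℕ → Q} (h : BiRel v) :
    ∃ θ : Spor.Bimonster →* Q, ∀ i < 16, θ (tB i) = v i := by
  have hr : ∀ r ∈ coxRelators Spor.Bimonster.edges ∪ {r | r ∈ Spor.Bimonster.extra},
      FreeGroup.lift (fun g => v (biIdx g)) r = 1 := by
    intro r hr
    rcases hr with ⟨a, -, b, -, rfl⟩ | hr
    · rw [map_pow, map_mul, FreeGroup.lift_apply_of, FreeGroup.lift_apply_of]
      have h1 := h.cox.sq _ (biIdx_lt a)
      have h2 := h.cox.sq _ (biIdx_lt b)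
      rcases bi_label a b with ⟨rfl, hl⟩ | ⟨ha, hl⟩ | ⟨ha, hl⟩
      · rw [hl, pow_one, h1]
      · have hb := h.cox.br _ (biIdx_lt a) _ (biIdx_lt b) ha
        rw [hl, pow_three']
        calc v (biIdx a) * v (biIdx b) * (v (biIdx a) * v (biIdx b)) * (v (biIdx a) * v (biIdx b))
            = (v (biIdx a) * v (biIdx b) * v (biIdx a)) * v (biIdx b) * v (biIdx a) *
                v (biIdx b) := by group
          _ = v (biIdx b) * v (biIdx a) * (v (biIdx b) * v (biIdx b)) * v (biIdx a) *
                v (biIdx b) := by rw [hb]; group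
          _ = v (biIdx b) * (v (biIdx a) * v (biIdx a)) * v (biIdx b) := by rw [h2]; group
          _ = 1 := by rw [h1, mul_one, h2]
      · have hb := h.cox.cm _ (biIdx_lt a) _ (biIdx_lt b) ha
        rw [hl, pow_two]
        calc v (biIdx a) * v (biIdx b) * (v (biIdx a) * v (biIdx b))
            = v (biIdx a) * (v (biIdx b) * v (biIdx a)) * v (biIdx b) := by group
          _ = (v (biIdx a) * v (biIdx a)) * (v (biIdx b) * v (biIdx b)) := by rw [← hb]; group
          _ = 1 := by rw [h1, h2, mul_one]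
    · have hr' : r ∈ Spor.Bimonster.extra := hr
      simp only [Spor.Bimonster.extra, List.mem_cons, List.not_mem_nil, or_false] at hr'
      rcases hr' with rfl | rfl | rfl | rfl | rfl | rfl | rfl
      · have := h.spider
        rw [map_pow]
        simp only [map_mul, FreeGroup.lift_apply_of, biIdx]
        simpa only [spW, ev_cons, ev_nil, mul_one, mul_assoc] using this
      · have := h.f1a
        rw [map_mul, map_inv, map_pow, mul_inv_eq_one]
        simp only [map_mul, FreeGroup.lift_apply_of, biIdx]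
        simpa only [f1a, ev_cons, ev_nil, mul_one, mul_assoc] using this
      · have := h.f1b
        rw [map_mul, map_inv, map_pow, mul_inv_eq_one]
        simp only [map_mul, FreeGroup.lift_apply_of, biIdx]
        simpa only [f1b, ev_cons, ev_nil, mul_one, mul_assoc] using this
      · have := h.f2a
        rw [map_mul, map_inv, map_pow, mul_inv_eq_one]
        simp only [map_mul, FreeGroup.lift_apply_of, biIdx]
        simpa only [f2a, ev_cons, ev_nil, mul_one, mul_assoc] using this
      · have := h.f2b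
        rw [map_mul, map_inv, map_pow, mul_inv_eq_one]
        simp only [map_mul, FreeGroup.lift_apply_of, biIdx]
        simpa only [f2b, ev_cons, ev_nil, mul_one, mul_assoc] using this
      · have := h.f3a
        rw [map_mul, map_inv, map_pow, mul_inv_eq_one]
        simp only [map_mul, FreeGroup.lift_apply_of, biIdx]
        simpa only [f3a, ev_cons, ev_nil, mul_one, mul_assoc] using this
      · have := h.f3b
        rw [map_mul, map_inv, map_pow, mul_inv_eq_one]
        simp only [map_mul, FreeGroup.lift_apply_of, biIdx]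
        simpa only [f3b, ev_cons, ev_nil, mul_one, mul_assoc] using this
  refine ⟨PresentedGroup.toGroup hr, fun i hi => ?_⟩
  show PresentedGroup.toGroup hr (PresentedGroup.of (biGen i)) = v i
  rw [PresentedGroup.toGroup.of, biIdx_gen i hi]

theorem tB_pow (g k : Spor.Bimonster.Gen) :
    ((PresentedGroup.of g : Spor.Bimonster) * PresentedGroup.of k) ^
      coxLabel Spor.Bimonster.edges g k = 1 := by
  have : PresentedGroup.mk (coxRelators Spor.Bimonster.edges ∪ {r | r ∈ Spor.Bimonster.extra})
      ((FreeGroup.of g * FreeGroup.of k) ^ coxLabel Spor.Bimonster.edges g k) = 1 :=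
    PresentedGroup.one_of_mem (Or.inl ⟨g, bi_nodes g, k, bi_nodes k, rfl⟩)
  rwa [map_pow, map_mul] at this

theorem tB_extra {r : FreeGroup Spor.Bimonster.Gen} (hr : r ∈ Spor.Bimonster.extra) :
    PresentedGroup.mk (coxRelators Spor.Bimonster.edges ∪ {r | r ∈ Spor.Bimonster.extra}) r = 1 :=
  PresentedGroup.one_of_mem (Or.inr hr)

theorem tB_cox : CoxRel 16 tB := by
  have hsq : ∀ g, (PresentedGroup.of g : Spor.Bimonster) * PresentedGroup.of g = 1 := by
    intro g
    have h1 := tB_pow g g
    have h2 : coxLabel Spor.Bimonster.edges g g = 1 := by unfold coxLabel; rw [if_pos rfl]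
    rwa [h2, pow_one] at h1
  refine ⟨fun i _ => hsq _, ?_, ?_⟩
  · intro i hi j hj hij
    have h1 := Square.inv_of_sq (hsq (biGen i))
    have h2 := Square.inv_of_sq (hsq (biGen j))
    have h3 := tB_pow (biGen i) (biGen j)
    show (PresentedGroup.of (biGen i) : Spor.Bimonster) * PresentedGroup.of (biGen j) =
      PresentedGroup.of (biGen j) * PresentedGroup.of (biGen i)
    rcases bi_label (biGen i) (biGen j) with ⟨he, hl⟩ | ⟨ha, hl⟩ | ⟨ha, hl⟩
    · rw [he]
    · rw [biIdx_gen i hi, biIdx_gen j hj, hij] at ha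
      exact absurd ha (by decide)
    · rw [hl, pow_two] at h3
      rw [eq_inv_of_mul_eq_one_left h3, mul_inv_rev, h1, h2]
  · intro i hi j hj hij
    have h1 := Square.inv_of_sq (hsq (biGen i))
    have h2 := Square.inv_of_sq (hsq (biGen j))
    have h3 := tB_pow (biGen i) (biGen j)
    show (PresentedGroup.of (biGen i) : Spor.Bimonster) * PresentedGroup.of (biGen j) *
      PresentedGroup.of (biGen i) = PresentedGroup.of (biGen j) * PresentedGroup.of (biGen i) *
        PresentedGroup.of (biGen j)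
    rcases bi_label (biGen i) (biGen j) with ⟨he, hl⟩ | ⟨ha, hl⟩ | ⟨ha, hl⟩
    · rw [he]
    · rw [hl, pow_three'] at h3
      generalize (PresentedGroup.of (biGen i) : Spor.Bimonster) = p at h1 h2 h3 ⊢
      generalize (PresentedGroup.of (biGen j) : Spor.Bimonster) = q at h1 h2 h3 ⊢
      have h4 : p * q * p * (q * p * q) = 1 := by rw [← h3]; simp only [mul_assoc]
      rw [eq_inv_of_mul_eq_one_left h4, mul_inv_rev, mul_inv_rev, h1, h2, mul_assoc]
    · rw [biIdx_gen i hi, biIdx_gen j hj, hij] at ha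
      exact absurd ha (by decide)

theorem tB_birel : BiRel tB := by
  refine ⟨tB_cox, ?_, ?_, ?_, ?_, ?_, ?_, ?_⟩
  · have := tB_extra (r := (Spor.Bimonster.a * Spor.Bimonster.b1 * Spor.Bimonster.c1 *
      Spor.Bimonster.a * Spor.Bimonster.b2 * Spor.Bimonster.c2 * Spor.Bimonster.a *
      Spor.Bimonster.b3 * Spor.Bimonster.c3) ^ 10) (by simp [Spor.Bimonster.extra])
    rw [map_pow] at this
    simp only [map_mul, mul_assoc] at this
    simp only [spW, ev_cons, ev_nil, mul_one]
    exact this
  · have := tB_extra (r := Spor.Bimonster.f1 * (((Spor.Bimonster.a * Spor.Bimonster.b1 * Spor.Bimonster.b2 * Spor.Bimonster.b3 * Spor.Bimonster.c1 * Spor.Bimonster.c2 * Spor.Bimonster.d1) ^ 9)⁻¹))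
      (by simp [Spor.Bimonster.extra])
    rw [map_mul, map_inv, map_pow, mul_inv_eq_one] at this
    simp only [map_mul, mul_assoc] at this
    simp only [f1a, ev_cons, ev_nil, mul_one]
    exact this
  · have := tB_extra (r := Spor.Bimonster.f1 * (((Spor.Bimonster.a * Spor.Bimonster.b1 * Spor.Bimonster.b3 * Spor.Bimonster.b2 * Spor.Bimonster.c1 * Spor.Bimonster.c3 * Spor.Bimonster.d1) ^ 9)⁻¹))
      (by simp [Spor.Bimonster.extra])
    rw [map_mul, map_inv, map_pow, mul_inv_eq_one] at this
    simp only [map_mul, mul_assoc] at this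
    simp only [f1b, ev_cons, ev_nil, mul_one]
    exact this
  · have := tB_extra (r := Spor.Bimonster.f2 * (((Spor.Bimonster.a * Spor.Bimonster.b2 * Spor.Bimonster.b1 * Spor.Bimonster.b3 * Spor.Bimonster.c2 * Spor.Bimonster.c1 * Spor.Bimonster.d2) ^ 9)⁻¹))
      (by simp [Spor.Bimonster.extra])
    rw [map_mul, map_inv, map_pow, mul_inv_eq_one] at this
    simp only [map_mul, mul_assoc] at this
    simp only [f2a, ev_cons, ev_nil, mul_one]
    exact this
  · have := tB_extra (r := Spor.Bimonster.f2 * (((Spor.Bimonster.a * Spor.Bimonster.b2 * Spor.Bimonster.b3 * Spor.Bimonster.b1 * Spor.Bimonster.c2 * Spor.Bimonster.c3 * Spor.Bimonster.d2) ^ 9)⁻¹))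
      (by simp [Spor.Bimonster.extra])
    rw [map_mul, map_inv, map_pow, mul_inv_eq_one] at this
    simp only [map_mul, mul_assoc] at this
    simp only [f2b, ev_cons, ev_nil, mul_one]
    exact this
  · have := tB_extra (r := Spor.Bimonster.f3 * (((Spor.Bimonster.a * Spor.Bimonster.b3 * Spor.Bimonster.b1 * Spor.Bimonster.b2 * Spor.Bimonster.c3 * Spor.Bimonster.c1 * Spor.Bimonster.d3) ^ 9)⁻¹))
      (by simp [Spor.Bimonster.extra])
    rw [map_mul, map_inv, map_pow, mul_inv_eq_one] at this
    simp only [map_mul, mul_assoc] at this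
    simp only [f3a, ev_cons, ev_nil, mul_one]
    exact this
  · have := tB_extra (r := Spor.Bimonster.f3 * (((Spor.Bimonster.a * Spor.Bimonster.b3 * Spor.Bimonster.b2 * Spor.Bimonster.b1 * Spor.Bimonster.c3 * Spor.Bimonster.c2 * Spor.Bimonster.d3) ^ 9)⁻¹))
      (by simp [Spor.Bimonster.extra])
    rw [map_mul, map_inv, map_pow, mul_inv_eq_one] at this
    simp only [map_mul, mul_assoc] at this
    simp only [f3b, ev_cons, ev_nil, mul_one]
    exact this

theorem tB_gen : Subgroup.closure (nodes 16 tB) = ⊤ := by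
  rw [eq_top_iff, ← PresentedGroup.closure_range_of]
  refine (Subgroup.closure_le _).mpr ?_
  rintro _ ⟨g, rfl⟩
  exact Subgroup.subset_closure ⟨biIdx g, biIdx_lt g, by unfold tB; rw [biGen_idx]⟩

theorem exists_sgn : ∃ sgn : Spor.Bimonster →* ℤˣ, ∀ i < 16, sgn (tB i) = -1 := by
  refine bi_univ (v := fun _ => (-1 : ℤˣ)) ⟨⟨?_, ?_, ?_⟩, ?_, ?_, ?_, ?_, ?_, ?_, ?_⟩
  · intro i _; decide
  · intro i _ j _ _; rfl
  · intro i _ j _ _; rfl
  all_goals decide

/-- the nodes `a` and `f3` are conjugate -/
theorem exists_conj : ∃ g : Spor.Bimonster, g * tB 0 * g⁻¹ = tB 15 := by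
  have key : ∀ {i j : ℕ}, i < 16 → j < 16 → adjB i j = true →
      (tB i * tB j) * tB i * (tB i * tB j)⁻¹ = tB j := by
    intro i j hi hj hij
    have h1 := tB_cox.br i hi j hj hij
    rw [h1]
    group
  have step : ∀ {i j : ℕ}, i < 16 → j < 16 → adjB i j = true →
      (∃ g : Spor.Bimonster, g * tB 0 * g⁻¹ = tB i) → ∃ g : Spor.Bimonster, g * tB 0 * g⁻¹ = tB j := by
    rintro i j hi hj hij ⟨g, hg⟩
    refine ⟨(tB i * tB j) * g, ?_⟩
    have h1 : (tB i * tB j) * g * tB 0 * ((tB i * tB j) * g)⁻¹ =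
        (tB i * tB j) * (g * tB 0 * g⁻¹) * (tB i * tB j)⁻¹ := by group
    rw [h1, hg]
    exact key hi hj hij
  have h0 : ∃ g : Spor.Bimonster, g * tB 0 * g⁻¹ = tB 0 := ⟨1, by group⟩
  have h11 := step (i := 0) (j := 11) (by norm_num) (by norm_num) (by decide) h0
  have h12 := step (i := 11) (j := 12) (by norm_num) (by norm_num) (by decide) h11
  have h13 := step (i := 12) (j := 13) (by norm_num) (by norm_num) (by decide) h12
  have h14 := step (i := 13) (j := 14) (by norm_num) (by norm_num) (by decide) h13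
  exact step (i := 14) (j := 15) (by norm_num) (by norm_num) (by decide) h14

/-- **The Bimonster step**: if the presented group `PM` is centreless and its element `ζ` satisfies
the relations `ZRel`, then the Monster extracted from the Bimonster is `PM`. -/
theorem monster_equiv_PM (hF : FiFacts) (hz : ZRel xM)
    (hZ : ∀ c : PM, (∀ p, c * p = p * c) → c = 1) : Nonempty (Spor.Monster ≃* PM) := by
  obtain ⟨φ, hφ⟩ := xM_univ Spor.Bimonster _ tB_birel.prel
  obtain ⟨sgn, hsgn⟩ := exists_sgn
  have hS : Setup tB xM φ sgn := ⟨tB_birel, tB_gen, xM_prel, hz, xM_gen, hφ, hsgn⟩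
  obtain ⟨Ψ, hΨ⟩ := bi_univ (wT_birel xM_prel hz)
  -- injectivity
  have hcomp : ∀ p : PM, Ψ (φ p) = wL p := by
    intro p
    have hp : p ∈ Subgroup.closure (nodes 14 xM) := by rw [xM_gen]; trivial
    induction hp using Subgroup.closure_induction with
    | mem y hy =>
      obtain ⟨i, hi, rfl⟩ := hy
      rw [hφ i hi, map_mul, hΨ 15 (by norm_num), hΨ i (by omega), wT_15, wT_lt xM hi, ← mul_assoc,
        wS_sq, one_mul]
    | one => simp only [map_one]
    | mul y z _ _ hy hz => rw [map_mul, map_mul, hy, hz, ← map_mul]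
    | inv y _ hy => rw [map_inv, map_inv, hy, ← map_inv]
  have hinj : Function.Injective φ := by
    intro p q hpq
    apply wL_inj
    rw [← hcomp, ← hcomp, hpq]
  have hmain := hS.centralizer_eq hF hinj xM_univ hZ
  -- conjugation
  obtain ⟨g, hg⟩ := exists_conj
  let S0 : Subgroup Spor.Bimonster := Subgroup.centralizer {tB 0} ⊓ commutator Spor.Bimonster
  have hn : (commutator Spor.Bimonster).Normal := inferInstance
  have hmap : S0.map (MulAut.conj g).toMonoidHom = φ.range := by
    rw [← hmain]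
    ext k
    constructor
    · rintro ⟨s, ⟨hs1, hs2⟩, rfl⟩
      have h1 : tB 0 * s = s * tB 0 := (Subgroup.mem_centralizer_iff.mp hs1) _ rfl
      have h2 : (MulAut.conj g) s ∈ Subgroup.centralizer {tB 15} := by
        rw [Subgroup.mem_centralizer_iff]
        rintro _ rfl
        rw [← hg, MulAut.conj_apply]
        calc g * tB 0 * g⁻¹ * (g * s * g⁻¹) = g * (tB 0 * s) * g⁻¹ := by group
          _ = g * (s * tB 0) * g⁻¹ := by rw [h1]
          _ = _ := by group
      exact ⟨h2, hn.conj_mem _ hs2 g⟩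
    · rintro ⟨hk1, hk2⟩
      have h1 : tB 15 * k = k * tB 15 := (Subgroup.mem_centralizer_iff.mp hk1) _ rfl
      refine ⟨g⁻¹ * k * g, ⟨?_, ?_⟩, ?_⟩
      · have h3 : g⁻¹ * k * g ∈ Subgroup.centralizer {tB 0} := by
          rw [Subgroup.mem_centralizer_iff]
          rintro _ rfl
          have h4 : tB 0 = g⁻¹ * tB 15 * g := by rw [← hg]; group
          rw [h4]
          calc g⁻¹ * tB 15 * g * (g⁻¹ * k * g) = g⁻¹ * (tB 15 * k) * g := by group
            _ = g⁻¹ * (k * tB 15) * g := by rw [h1]
            _ = _ := by group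
        exact h3
      · have := hn.conj_mem _ hk2 g⁻¹
        rwa [inv_inv] at this
      · show g * (g⁻¹ * k * g) * g⁻¹ = k
        group
  have e1 : S0 ≃* S0.map (MulAut.conj g).toMonoidHom :=
    S0.equivMapOfInjective _ (MulAut.conj g).injective
  have e2 : S0.map (MulAut.conj g).toMonoidHom ≃* φ.range := MulEquiv.subgroupCongr hmap
  have e3 : φ.range ≃* PM := (MonoidHom.ofInjective hinj).symm
  exact ⟨(e1.trans e2).trans e3⟩

/-- the same statement with a model -/
theorem monster_equiv (hF : FiFacts) {M : Type} [Group M] [Finite M] {y : ℕ → M} (hy : PRel y)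
    (hz : ZRel y) (hgen : Subgroup.closure (nodes 14 y) = ⊤)
    (hZ : ∀ c : M, (∀ p, c * p = p * c) → c = 1)
    (hfin : Finite PM) (hcard : Nat.card PM ≤ Nat.card M) : Nonempty (Spor.Monster ≃* M) := by
  obtain ⟨σ, hσ⟩ := xM_univ M y hy
  have hsurj : Function.Surjective σ := by
    rw [← MonoidHom.range_eq_top, eq_top_iff, ← hgen]
    refine (Subgroup.closure_le _).mpr ?_
    rintro _ ⟨i, hi, rfl⟩
    exact ⟨xM i, hσ i hi⟩
  have hbij : Function.Bijective σ :=
    (Nat.bijective_iff_surjective_and_card (f := σ)).mpr ⟨hsurj, le_antisymm hcard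
      (Nat.card_le_card_of_surjective σ hsurj)⟩
  let e : PM ≃* M := MulEquiv.ofBijective σ hbij
  have hev : ∀ w : List ℕ, (∀ i ∈ w, i < 14) → σ (ev xM w) = ev y w := by
    intro w hw
    rw [map_ev]
    exact ev_congr fun i hi => hσ i (hw i hi)
  have hz14 : ∀ i ∈ zW, i < 14 := fun i hi => lt_trans (Setup.zW_lt i hi) (by norm_num)
  have hzM : ZRel xM := by
    refine ⟨?_, ?_, ?_⟩
    · apply hbij.1; rw [map_pow, hev _ hz14, hz.cube, map_one]
    · intro i hi
      apply hbij.1
      rw [map_mul, map_mul, map_inv, hev _ hz14, hσ i (by omega), hz.inv i hi]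
    · apply hbij.1; rw [map_pow, map_mul, hev _ hz14, hσ 13 (by norm_num), hz.ord, map_one]
  have hZM : ∀ c : PM, (∀ p, c * p = p * c) → c = 1 := by
    intro c hc
    apply hbij.1
    rw [map_one]
    apply hZ
    intro p
    obtain ⟨p, rfl⟩ := hsurj p
    rw [← map_mul, ← map_mul, hc]
  obtain ⟨e'⟩ := monster_equiv_PM hF hzM hZM
  exact ⟨e'.trans e⟩

end Cfsg.Agent.Bimonster
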