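import Cfsg.Agent.Bimonster.Certs

/-! # Further certificates (generated) -/

set_option autoImplicit false
set_option maxRecDepth 100000

namespace Cfsg.Agent.Bimonster

open Tits

/-- the spider word with two arms exchanged -/
def spW' : List ℕ := [0, 11, 12, 0, 6, 7, 0, 1, 2]

/-- conjugator -/
def sqG : List ℕ := [12, 7, 2, 0]

/-- certificate -/
def sqC : List ℕ := [9, 256, 259, 262, 265, 268, 271, 274, 276, 262, 265, 268, 271, 273, 268, 270, 267, 264,
    247, 250, 253, 256, 259, 261, 258, 255, 238, 241, 244, 247, 250, 252, 249, 246, 229, 232, 235, 238, 241,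
    243, 240, 237, 220, 223, 226, 229, 232, 234, 231, 228, 211, 214, 217, 220, 223, 225, 222, 219, 202, 205,
    208, 211, 214, 216, 213, 210, 193, 196, 199, 202, 205, 207, 204, 201, 184, 187, 190, 193, 196, 198, 195,
    192, 175, 178, 181, 184, 187, 189, 186, 183, 166, 169, 172, 175, 178, 180, 177, 174, 157, 160, 163, 166,
    169, 171, 168, 165, 148, 151, 154, 157, 160, 162, 159, 156, 139, 142, 145, 148, 151, 153, 150, 147, 130,
    133, 136, 139, 142, 144, 141, 138, 121, 124, 127, 130, 133, 135, 132, 129, 112, 115, 118, 121, 124, 126,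
    123, 120, 103, 106, 109, 112, 115, 117, 114, 111, 94, 97, 100, 103, 106, 108, 105, 102, 85, 88, 91, 94,
    97, 99, 96, 93, 76, 79, 82, 85, 88, 90, 87, 84, 67, 70, 73, 76, 79, 81, 78, 75, 58, 61, 64, 67, 70, 72,
    69, 66, 49, 52, 55, 58, 61, 63, 60, 57, 40, 43, 46, 49, 52, 54, 51, 48, 31, 34, 37, 40, 43, 45, 42, 39,
    22, 25, 28, 31, 34, 36, 33, 30, 13, 16, 19, 22, 25, 27, 24, 21, 1, 4, 7, 10, 13, 16, 18, 15, 12, 1, 4,
    7, 9, 6, 3, 0]

theorem sq_ok : run (rules 14) sqC 0 (sqG ++ rep 10 spW ++ sqG.reverse ++ rep 10 spW') =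
    some (94, []) := by decide +kernel

/-- is the pair known -/
def hasP (l : List (ℕ × ℕ)) (i j : ℕ) : Bool := l.contains (i, j) || l.contains (j, i)

/-- closing a set of commuting pairs: `(i, j, k)` derives `(i, k)` from `(i, j)` -/
def closeP : List (ℕ × ℕ × ℕ) → List (ℕ × ℕ) → Option (List (ℕ × ℕ))
  | [], l => some l
  | (i, j, k) :: s, l =>
    if (Nat.blt i 14 && Nat.blt j 14 && Nat.blt k 14 && hasP l i j && adjB j k && !adjB i j &&
      !adjB i k) = true then closeP s ((i, k) :: l) else none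

/-- the steps -/
def stepsP : List (ℕ × ℕ × ℕ) := [(4, 13, 12), (13, 4, 3), (13, 4, 5), (13, 3, 2), (3, 13, 12), (4, 12, 11),
    (12, 4, 5), (13, 2, 1), (2, 13, 12), (5, 12, 11), (4, 11, 0), (11, 4, 3), (4, 0, 1), (4, 0, 6), (0, 4,
    3), (0, 4, 5), (13, 1, 0), (1, 13, 12), (11, 3, 2), (4, 6, 7), (6, 4, 3), (6, 4, 5), (11, 2, 1), (2, 11,
    0), (5, 0, 1), (12, 1, 0), (4, 1, 2), (1, 4, 3), (13, 0, 6), (13, 0, 11), (5, 1, 2), (5, 6, 7), (12, 0,
    6), (4, 7, 8), (7, 4, 3), (2, 0, 6), (13, 6, 7), (5, 7, 8), (12, 6, 7), (6, 12, 11), (4, 8, 9), (8, 4,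
    3), (13, 7, 8), (7, 3, 2), (5, 2, 3), (6, 2, 1), (12, 7, 8), (7, 12, 11), (4, 9, 10), (9, 4, 3), (9, 4,
    5), (8, 3, 2), (13, 8, 9), (1, 6, 7), (5, 9, 10), (8, 2, 1), (2, 8, 9), (12, 8, 9), (8, 12, 11), (10, 4,
    3), (7, 11, 0), (13, 9, 10), (10, 3, 2), (12, 9, 10), (9, 12, 11), (8, 11, 0), (1, 8, 9), (10, 12, 11),
    (8, 0, 6), (0, 8, 9), (1, 9, 10), (6, 8, 9), (10, 11, 0), (10, 0, 6), (9, 6, 7), (10, 6, 7), (10, 7, 8)]

/-- all pairs are reached -/
def allP : Bool :=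
  match closeP stepsP [(4, 13)] with
  | some l => (List.range 14).all fun i => (List.range 14).all fun j =>
      adjB i j || Nat.beq i j || hasP l i j
  | none => false

theorem allP_ok : allP = true := by decide +kernel

end Cfsg.Agent.Bimonster
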