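import Cfsg.Agent.Bimonster.Words
import Cfsg.Prelude.Def_Spor_Fi23

/-! # The use of the presented group `Fi23` -/

set_option autoImplicit false
set_option linter.constructorNameAsVariable false
set_option linter.unusedSimpArgs false

namespace Cfsg.Agent.Bimonster

open Tits Cfsg.Spor

/-- the letters in `Fi23` -/
def fiGen : ℕ → Fi23.Gen
  | 0 => .d
  | 1 => .e
  | 2 => .f
  | 3 => .g
  | 4 => .j
  | 6 => .h
  | 7 => .i
  | 11 => .c
  | 12 => .b
  | 13 => .a
  | _ => .d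

/-- the generators of `Fi23` with our names -/
def fiW (i : ℕ) : Fi23 := PresentedGroup.of (fiGen i)

/-- The facts about the presented group `Fi23` which are used. -/
def FiFacts : Prop :=
  ev fiW f3b ^ 9 = 1 ∧ ev fiW f1a ^ 9 = ev fiW f1b ^ 9 ∧
    ev fiW f1a ^ 9 * fiW 4 * ev fiW f1a ^ 9 = fiW 4 * ev fiW f1a ^ 9 * fiW 4

/-- letters for the generators -/
def fiIdx : Fi23.Gen → ℕ
  | .a => 13
  | .b => 12
  | .c => 11
  | .d => 0
  | .e => 1
  | .f => 2
  | .g => 3
  | .j => 4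
  | .h => 6
  | .i => 7

/-- relations of `Fi23` for a family of elements -/
structure FiRel {Q : Type*} [Group Q] (v : ℕ → Q) : Prop where
  cox : ∀ i j : Fi23.Gen, (v (fiIdx i) * v (fiIdx j)) ^ coxLabel Fi23.edges i j = 1
  spider : ev v [0, 11, 12, 0, 1, 2, 0, 6, 7] ^ 10 = 1
  e7 : ev v [13, 12, 11, 0, 1, 2, 6] ^ 9 = 1

theorem fi_conc (hF : FiFacts) {Q : Type*} [Group Q] {v : ℕ → Q} (h : FiRel v) :
    ev v f3b ^ 9 = 1 ∧ ev v f1a ^ 9 = ev v f1b ^ 9 ∧
      ev v f1a ^ 9 * v 4 * ev v f1a ^ 9 = v 4 * ev v f1a ^ 9 * v 4 := by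
  have hr : ∀ r ∈ coxRelators Fi23.edges ∪ {r | r ∈ Fi23.extra},
      FreeGroup.lift (fun g => v (fiIdx g)) r = 1 := by
    intro r hr
    rcases hr with ⟨a, -, b, -, rfl⟩ | hr
    · rw [map_pow, map_mul, FreeGroup.lift_apply_of, FreeGroup.lift_apply_of]
      exact h.cox a b
    · have hr' : r ∈ Fi23.extra := hr
      rw [Fi23.extra, List.mem_cons, List.mem_singleton] at hr'
      rcases hr' with rfl | rfl
      · have := h.spider
        rw [map_pow]
        simp only [map_mul, FreeGroup.lift_apply_of, Fi23.a, Fi23.b, Fi23.c, Fi23.d, Fi23.e,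
          Fi23.f, Fi23.h, Fi23.i, fiIdx]
        simpa only [ev_cons, ev_nil, mul_one, mul_assoc] using this
      · have := h.e7
        rw [map_pow]
        simp only [map_mul, FreeGroup.lift_apply_of, Fi23.a, Fi23.b, Fi23.c, Fi23.d, Fi23.e,
          Fi23.f, Fi23.h, Fi23.i, fiIdx]
        simpa only [ev_cons, ev_nil, mul_one, mul_assoc] using this
  let θ : Fi23 →* Q := PresentedGroup.toGroup hr
  have hθ : ∀ g : Fi23.Gen, θ (PresentedGroup.of g) = v (fiIdx g) := fun g =>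
    PresentedGroup.toGroup.of hr
  have hev : ∀ w : List ℕ, (∀ i ∈ w, fiIdx (fiGen i) = i) → θ (ev fiW w) = ev v w := by
    intro w hw
    rw [map_ev]
    apply ev_congr
    intro i hi
    show θ (PresentedGroup.of (fiGen i)) = v i
    rw [hθ, hw i hi]
  have h4 : θ (fiW 4) = v 4 := hθ _
  obtain ⟨h1, h2, h3⟩ := hF
  refine ⟨?_, ?_, ?_⟩
  · have := congrArg θ h1
    rwa [map_pow, hev _ (by decide), map_one] at this
  · have := congrArg θ h2
    rwa [map_pow, map_pow, hev _ (by decide), hev _ (by decide)] at this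
  · have := congrArg θ h3
    rwa [map_mul, map_mul, map_mul, map_mul, map_pow, hev _ (by decide), h4] at this

/-- the Coxeter part of `FiRel` -/
theorem fi_cox {Q : Type*} [Group Q] {v : ℕ → Q} (h : CoxRel 14 v) :
    ∀ i j : Fi23.Gen, (v (fiIdx i) * v (fiIdx j)) ^ coxLabel Fi23.edges i j = 1 := by
  have key : ∀ i j : Fi23.Gen, (fiIdx i < 14 ∧ fiIdx j < 14) ∧
      ((i = j ∧ coxLabel Fi23.edges i j = 1) ∨
        (adjB (fiIdx i) (fiIdx j) = true ∧ coxLabel Fi23.edges i j = 3) ∨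
        (adjB (fiIdx i) (fiIdx j) = false ∧ coxLabel Fi23.edges i j = 2)) := by
    intro i j; cases i <;> cases j <;> decide
  intro i j
  obtain ⟨⟨hi, hj⟩, hc⟩ := key i j
  rcases hc with ⟨rfl, hl⟩ | ⟨ha, hl⟩ | ⟨ha, hl⟩
  · rw [hl, pow_one, h.sq _ hi]
  · have hb := h.br _ hi _ hj ha
    have h1 := h.sq _ hi
    have h2 := h.sq _ hj
    rw [hl, pow_three']
    calc v (fiIdx i) * v (fiIdx j) * (v (fiIdx i) * v (fiIdx j)) * (v (fiIdx i) * v (fiIdx j))
        = (v (fiIdx i) * v (fiIdx j) * v (fiIdx i)) * v (fiIdx j) * v (fiIdx i) * v (fiIdx j) := by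
          group
      _ = v (fiIdx j) * v (fiIdx i) * (v (fiIdx j) * v (fiIdx j)) * v (fiIdx i) * v (fiIdx j) := by
          rw [hb]; group
      _ = v (fiIdx j) * (v (fiIdx i) * v (fiIdx i)) * v (fiIdx j) := by rw [h2]; group
      _ = 1 := by rw [h1, mul_one, h2]
  · have hb := h.cm _ hi _ hj ha
    have h1 := h.sq _ hi
    have h2 := h.sq _ hj
    rw [hl, pow_two]
    calc v (fiIdx i) * v (fiIdx j) * (v (fiIdx i) * v (fiIdx j))
        = v (fiIdx i) * (v (fiIdx j) * v (fiIdx i)) * v (fiIdx j) := by group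
      _ = (v (fiIdx i) * v (fiIdx i)) * (v (fiIdx j) * v (fiIdx j)) := by rw [← hb]; group
      _ = 1 := by rw [h1, h2, mul_one]

end Cfsg.Agent.Bimonster
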