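import Cfsg.Agent.Bimonster.Lift
import Cfsg.Agent.Bimonster.Fi

/-! # Perfect central extensions of the presented group have kernel of exponent 3 -/

set_option autoImplicit false
set_option linter.unusedVariables false

namespace Cfsg.Agent.Bimonster

open Tits
open scoped commutatorElement

universe u

/-- exchange of the first two arms -/
def swp (i : ℕ) : ℕ :=
  if i = 0 then 0 else if i ≤ 5 then i + 5 else if i ≤ 10 then i - 5 else i

theorem swp_cox {G : Type*} [Group G] {y : ℕ → G} (h : CoxRel 14 y) :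
    CoxRel 14 (fun i => y (swp i)) := by
  have h1 : ∀ i < 14, swp i < 14 := by decide
  have h2 : ∀ i < 14, ∀ j < 14, adjB (swp i) (swp j) = adjB i j := by decide
  refine ⟨fun i hi => h.sq _ (h1 i hi), fun i hi j hj hij => h.cm _ (h1 i hi) _ (h1 j hj) ?_,
    fun i hi j hj hij => h.br _ (h1 i hi) _ (h1 j hj) ?_⟩
  · rw [h2 i hi j hj]; exact hij
  · rw [h2 i hi j hj]; exact hij

theorem ev_swp {G : Type*} [Group G] (y : ℕ → G) (w : List ℕ) :
    ev (fun i => y (swp i)) w = ev y (w.map swp) := by
  induction w with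
  | nil => simp
  | cons i w ih => rw [List.map_cons, ev_cons, ev_cons, ih]

namespace Ext

variable {E P : Type*} [Group E] [Group P] {π : E →* P}

/-- a fixed lift with the right braid relation is the right one -/
theorem node_eq (h : Ext π) {a b F : E} (hF : π a = π F) (hab : a * b * a = b * a * b)
    (hFb : F * b * F = b * F * b) : a = F := by
  obtain ⟨c, hc, rfl⟩ := h.eq_mul hF
  have hcc := h.cen c hc
  have e1 : c * F * b * (c * F) = c * c * (F * b * F) := by
    calc c * F * b * (c * F) = c * (F * b * c) * F := by simp only [mul_assoc]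
      _ = c * (c * (F * b)) * F := by rw [hcc (F * b)]
      _ = _ := by simp only [mul_assoc]
  have e2 : b * (c * F) * b = c * (F * b * F) := by
    calc b * (c * F) * b = (b * c) * (F * b) := by simp only [mul_assoc]
      _ = c * b * (F * b) := by rw [hcc b]
      _ = c * (b * F * b) := by simp only [mul_assoc]
      _ = _ := by rw [hFb]
  rw [e1, e2, mul_assoc] at hab
  have h1 := mul_left_cancel hab
  have h2 : c = 1 := by
    have h3 : c * (F * b * F) = 1 * (F * b * F) := by rw [h1, one_mul]
    exact mul_right_cancel h3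
  rw [h2, one_mul]

/-- the lifts satisfy all relations if the spider relation holds -/
theorem prel_of_spider (hF : FiFacts) (h : Ext π) {x : ℕ → P} (hx : PRel x) {y : ℕ → E}
    (hy : ∀ i, π (y i) = x i) (hc : CoxRel 14 y) (h3 : ev y f3a ^ 9 = 1)
    (hs : ev y spW ^ 10 = 1) : PRel y := by
  have hxy : (fun i => π (y i)) = x := funext hy
  have rot : ev y [0, 11, 12, 0, 1, 2, 0, 6, 7] ^ 10 = 1 := by
    have e1 : ev y spW = ev y [0, 1, 2, 0, 6, 7] * ev y [0, 11, 12] := by
      rw [← ev_append]; rfl
    have e2 : ev y [0, 11, 12, 0, 1, 2, 0, 6, 7] = ev y [0, 11, 12] * ev y [0, 1, 2, 0, 6, 7] := by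
      rw [← ev_append]; rfl
    have e3 : ev y [0, 11, 12, 0, 1, 2, 0, 6, 7] =
        ev y [0, 11, 12] * ev y spW * (ev y [0, 11, 12])⁻¹ := by
      rw [e1, e2]; group
    rw [e3, conj_pow, hs, mul_one, mul_inv_cancel]
  have hfi : FiRel y := ⟨fi_cox hc, rot, by rw [← fiA_good hc]; exact h3⟩
  obtain ⟨g1, g2, g3⟩ := fi_conc hF hfi
  have hc' := swp_cox hc
  have rot' : ev y spW' ^ 10 = 1 := by
    have h1 := eq_of_run hc.valid sq_ok
    rw [one_pow, ev_append, ev_append, ev_append, ev_rep, ev_rep, hs, mul_one,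
      ev_reverse (sq_of_lt hc (by decide)), mul_inv_cancel, one_mul] at h1
    exact h1
  have hfi' : FiRel (fun i => y (swp i)) := by
    refine ⟨fi_cox hc', ?_, ?_⟩
    · rw [ev_swp]; exact rot'
    · rw [ev_swp]
      have : ev y ([13, 12, 11, 0, 1, 2, 6].map swp) ^ 9 = ev y f3b ^ 9 := (fiB_good hc).symm
      rw [this]; exact g1
  obtain ⟨k1, k2, k3⟩ := fi_conc hF hfi'
  rw [ev_swp, ev_swp] at k2
  rw [ev_swp] at k3
  have w1 : f1a.map swp = f2a := by decide
  have w2 : f1b.map swp = f2b := by decide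
  have w3 : swp 4 = 9 := by decide
  simp only [w1, w2, w3] at k2 k3
  have n5 : y 5 = ev y f1a ^ 9 := by
    refine h.node_eq ?_ (hc.br 5 (by norm_num) 4 (by norm_num) (by decide)) g3
    rw [hy, map_pow, map_ev, hxy]; exact hx.f1a
  have n10 : y 10 = ev y f2a ^ 9 := by
    refine h.node_eq ?_ (hc.br 10 (by norm_num) 9 (by norm_num) (by decide)) k3
    rw [hy, map_pow, map_ev, hxy]; exact hx.f2a
  exact ⟨hc, hs, n5, by rw [← g2]; exact n5, n10, by rw [← k2]; exact n10, h3, g1⟩

/-- a perfect central extension with a section is trivial -/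
theorem trivial_of_section (h : Ext π) (hperf : commutator E = ⊤) {σ : P →* E}
    (hσ : ∀ p, π (σ p) = p) {c : E} (hc : π c = 1) : c = 1 := by
  have hle : commutator E ≤ σ.range := by
    rw [commutator_def, Subgroup.commutator_le]
    intro g _ k _
    have key : ∀ g : E, ∃ z, π z = 1 ∧ g = z * σ (π g) := fun g =>
      h.eq_mul (a := g) (b := σ (π g)) (hσ _).symm
    obtain ⟨z, hz, hg⟩ := key g
    obtain ⟨w, hw, hk⟩ := key k
    refine ⟨⁅π g, π k⁆, ?_⟩
    rw [map_commutatorElement]
    have hzc := h.cen z hz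
    have hwc := h.cen w hw
    generalize σ (π g) = a at hg
    generalize σ (π k) = b at hk
    subst hg hk
    rw [commutatorElement_def, commutatorElement_def]
    have e1 : z * a * (w * b) = (a * b) * (z * w) := by
      calc z * a * (w * b) = z * (a * w) * b := by simp only [mul_assoc]
        _ = z * (w * a) * b := by rw [hwc]
        _ = (z * w) * (a * b) := by simp only [mul_assoc]
        _ = (a * b) * (z * w) := h.cen (z * w) (by rw [map_mul, hz, hw, one_mul]) _
    have e2 : w * b * (z * a) = (b * a) * (z * w) := by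
      calc w * b * (z * a) = w * (b * z) * a := by simp only [mul_assoc]
        _ = w * (z * b) * a := by rw [hzc]
        _ = (w * z) * (b * a) := by simp only [mul_assoc]
        _ = (z * w) * (b * a) := by rw [hzc w]
        _ = (b * a) * (z * w) := h.cen (z * w) (by rw [map_mul, hz, hw, one_mul]) _
    calc a * b * a⁻¹ * b⁻¹ = (a * b) * (b * a)⁻¹ := by group
      _ = ((a * b) * (z * w)) * ((b * a) * (z * w))⁻¹ := by group
      _ = (z * a * (w * b)) * (w * b * (z * a))⁻¹ := by rw [e1, e2]
      _ = z * a * (w * b) * (z * a)⁻¹ * (w * b)⁻¹ := by group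
  rw [hperf] at hle
  obtain ⟨p, rfl⟩ := hle (Subgroup.mem_top c)
  rw [hσ] at hc
  rw [hc, map_one]

end Ext

/-- the universal property of the group presented by `PRel` -/
def Univ {P : Type*} [Group P] (x : ℕ → P) : Prop :=
  ∀ (Q : Type u) [Group Q] (v : ℕ → Q), PRel v → ∃ σ : P →* Q, ∀ i < 14, σ (x i) = v i

theorem Ext.trivial_of_prel {E : Type u} {P : Type*} [Group E] [Group P] {π : E →* P}
    (h : Ext π) (hperf : commutator E = ⊤) {x : ℕ → P}
    (hgen : Subgroup.closure (nodes 14 x) = ⊤) (hU : Univ.{u} x) {y : ℕ → E}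
    (hy : ∀ i, π (y i) = x i) (hyP : PRel y) {c : E} (hc : π c = 1) : c = 1 := by
  obtain ⟨σ, hσ⟩ := hU E y hyP
  have hid : π.comp σ = MonoidHom.id P := by
    apply MonoidHom.eq_of_eqOn_top
    rw [← hgen]
    intro p hp
    have : p ∈ (MonoidHom.eqLocus (π.comp σ) (MonoidHom.id P)) := by
      refine (Subgroup.closure_le _).mpr ?_ hp
      rintro q ⟨i, hi, rfl⟩
      show π (σ (x i)) = x i
      rw [hσ i hi, hy]
    exact this
  exact h.trivial_of_section hperf (σ := σ) (fun p => DFunLike.congr_fun hid p) hc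

/-- **Splitting**: a perfect central extension of the presented group has kernel of exponent 3. -/
theorem Ext.cube_eq_one (hF : FiFacts) {E : Type u} {P : Type*} [Group E] [Group P] {π : E →* P}
    (h : Ext π) (hperf : commutator E = ⊤) {x : ℕ → P} (hx : PRel x)
    (hgen : Subgroup.closure (nodes 14 x) = ⊤) (hU : Univ.{u} x) :
    ∀ c, π c = 1 → c ^ 3 = 1 := by
  obtain ⟨y, hy, hcox, h3⟩ := h.exists_cox_lift hx.cox hx.f3a
  set s := ev y spW ^ 10 with hs
  have hxy : (fun i => π (y i)) = x := funext hy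
  have hπs : π s = 1 := by rw [hs, map_pow, map_ev, hxy, hx.spider]
  have hsc := h.cen s hπs
  have hs3 : s ^ 3 = 1 := by
    obtain ⟨g, k, hgk⟩ := sp_good hcox
    rw [← hs] at hgk
    have e1 : ∀ g : E, g * s * g⁻¹ = s := fun g => by rw [← hsc g]; group
    rw [e1, e1] at hgk
    rw [pow_three']; exact hgk
  have hN : (Subgroup.zpowers s).Normal := by
    constructor
    intro n hn g
    obtain ⟨m, rfl⟩ := Subgroup.mem_zpowers_iff.mp hn
    have : Commute s g := hsc g
    rw [← (this.zpow_left m).eq]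
    simp
  have hker : Subgroup.zpowers s ≤ π.ker := by
    rw [Subgroup.zpowers_le]; exact hπs
  let q := QuotientGroup.mk' (Subgroup.zpowers s)
  let π' : E ⧸ Subgroup.zpowers s →* P := QuotientGroup.lift (Subgroup.zpowers s) π hker
  have hπ' : ∀ e, π' (q e) = π e := fun e => rfl
  have hq : Function.Surjective q := QuotientGroup.mk'_surjective _
  have hE' : Ext π' := by
    constructor
    · intro p
      obtain ⟨e, he⟩ := h.surj p
      exact ⟨q e, by rw [hπ', he]⟩
    · intro k hk g
      obtain ⟨k, rfl⟩ := hq k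
      obtain ⟨g, rfl⟩ := hq g
      rw [hπ'] at hk
      rw [← map_mul, ← map_mul, h.cen k hk]
  have hperf' : commutator (E ⧸ Subgroup.zpowers s) = ⊤ := by
    rw [commutator_def, ← Subgroup.map_top_of_surjective q hq, ← Subgroup.map_commutator,
      ← commutator_def, hperf]
  have hcox' : CoxRel 14 (fun i => q (y i)) := hcox.map q
  have h3' : ev (fun i => q (y i)) f3a ^ 9 = 1 := by rw [← map_ev, ← map_pow, h3, map_one]
  have hs' : ev (fun i => q (y i)) spW ^ 10 = 1 := by
    rw [← map_ev, ← map_pow, ← hs]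
    exact (QuotientGroup.eq_one_iff s).mpr (Subgroup.mem_zpowers s)
  have hyP : PRel (fun i => q (y i)) :=
    hE'.prel_of_spider hF hx (fun i => by rw [hπ', hy]) hcox' h3' hs'
  intro c hc
  have hqc : q c = 1 :=
    hE'.trivial_of_prel hperf' hgen hU (fun i => by rw [hπ', hy]) hyP (by rw [hπ', hc])
  have hmem : c ∈ Subgroup.zpowers s := (QuotientGroup.eq_one_iff c).mp hqc
  obtain ⟨m, rfl⟩ := Subgroup.mem_zpowers_iff.mp hmem
  rw [← zpow_natCast, ← zpow_mul, mul_comm, zpow_mul, zpow_natCast, hs3, one_zpow]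

end Cfsg.Agent.Bimonster
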