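import Cfsg.Agent.Bimonster.Struct
import Cfsg.Agent.Bimonster.Split

/-! # The structure of the Bimonster: closing -/

set_option autoImplicit false
set_option linter.unusedVariables false

namespace Cfsg.Agent.Bimonster

open Tits
open scoped commutatorElement

namespace Setup

section

variable {G P : Type*} [Group G] [Group P]
variable {t : ℕ → G} {x : ℕ → P} {φ : P →* G} {sgn : G →* ℤˣ}

/-- conjugate by a word -/
def cw (x : ℕ → P) (φ : P →* G) (v : List ℕ) (g : G) : G := (φ (ev x v))⁻¹ * g * φ (ev x v)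

theorem cw_mul (v : List ℕ) (a b : G) : cw x φ v (a * b) = cw x φ v a * cw x φ v b := by
  unfold cw; group

theorem cw_nil (a : G) : cw x φ [] a = a := by
  unfold cw; simp

/-- the first factor -/
def A0 (t : ℕ → G) (x : ℕ → P) (φ : P →* G) : Subgroup G :=
  Subgroup.closure {g | ∃ v ∈ pth, cw x φ v (al t x φ) = g}

/-- the second factor -/
def B0 (t : ℕ → G) (x : ℕ → P) (φ : P →* G) : Subgroup G :=
  Subgroup.closure {g | ∃ v ∈ pth, cw x φ v (be t x φ) = g}

theorem al_mem {v : List ℕ} (hv : v ∈ pth) : cw x φ v (al t x φ) ∈ A0 t x φ :=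
  Subgroup.subset_closure ⟨v, hv, rfl⟩

theorem be_mem {v : List ℕ} (hv : v ∈ pth) : cw x φ v (be t x φ) ∈ B0 t x φ :=
  Subgroup.subset_closure ⟨v, hv, rfl⟩

theorem pth_lt : ∀ v ∈ pth, ∀ i ∈ v, i < 14 := by decide

theorem nil_mem_pth : ([] : List ℕ) ∈ pth := by decide

theorem gen_comm (h : Setup t x φ sgn) {v w : List ℕ} (hv : v ∈ pth) (hw : w ∈ pth) :
    Commute (cw x φ v (al t x φ)) (cw x φ w (be t x φ)) := by
  have hs := h.S_pairs v hv w hw
  unfold S at hs
  rw [ev_append, ev_reverse (sq_of_lt h.xrel.cox (pth_lt w hw)), map_mul, map_inv] at hs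
  have h1 := (Commute.conj_iff (φ (ev x w))⁻¹).mpr hs
  have e1 : (φ (ev x w))⁻¹ * ((φ (ev x v) * (φ (ev x w))⁻¹)⁻¹ * al t x φ *
      (φ (ev x v) * (φ (ev x w))⁻¹)) * ((φ (ev x w))⁻¹)⁻¹ = cw x φ v (al t x φ) := by
    unfold cw; group
  have e2 : (φ (ev x w))⁻¹ * be t x φ * ((φ (ev x w))⁻¹)⁻¹ = cw x φ w (be t x φ) := by
    unfold cw; group
  rwa [e1, e2] at h1

theorem AB_comm (h : Setup t x φ sgn) {a b : G} (ha : a ∈ A0 t x φ) (hb : b ∈ B0 t x φ) :
    a * b = b * a := by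
  have h1 : A0 t x φ ≤ Subgroup.centralizer (B0 t x φ : Set G) := by
    unfold B0
    rw [Subgroup.centralizer_closure]
    refine (Subgroup.closure_le _).mpr ?_
    rintro _ ⟨v, hv, rfl⟩
    rw [SetLike.mem_coe, Subgroup.mem_centralizer_iff]
    rintro _ ⟨w, hw, rfl⟩
    exact (h.gen_comm hv hw).symm.eq
  exact ((Subgroup.mem_centralizer_iff.mp (h1 ha)) b hb).symm

/-- conjugation with `f` on word conjugates -/
theorem f_cw (h : Setup t x φ sgn) (v : List ℕ) (g : G) :
    t 15 * cw x φ v g * t 15 = cw x φ v (t 15 * g * t 15) := by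
  have h1 := h.f_phi (ev x v)
  have h2 : t 15 * (φ (ev x v))⁻¹ = (φ (ev x v))⁻¹ * t 15 := by rw [← map_inv]; exact h.f_phi _
  unfold cw
  calc t 15 * ((φ (ev x v))⁻¹ * g * φ (ev x v)) * t 15
      = (t 15 * (φ (ev x v))⁻¹) * g * (φ (ev x v) * t 15) := by simp only [mul_assoc]
    _ = ((φ (ev x v))⁻¹ * t 15) * g * (t 15 * φ (ev x v)) := by rw [h2, h1]
    _ = _ := by simp only [mul_assoc]

theorem f_conj_mul (h : Setup t x φ sgn) (a b : G) :
    t 15 * (a * b) * t 15 = (t 15 * a * t 15) * (t 15 * b * t 15) := by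
  calc t 15 * (a * b) * t 15 = t 15 * a * 1 * b * t 15 := by simp only [mul_assoc, mul_one]
    _ = t 15 * a * (t 15 * t 15) * b * t 15 := by rw [h.ff]
    _ = _ := by simp only [mul_assoc]

theorem f_conj_inv (h : Setup t x φ sgn) (a : G) :
    t 15 * a⁻¹ * t 15 = (t 15 * a * t 15)⁻¹ := by
  rw [mul_inv_rev, mul_inv_rev, Square.inv_of_sq h.ff, mul_assoc]

theorem f_conj_conj (h : Setup t x φ sgn) (a : G) :
    t 15 * (t 15 * a * t 15) * t 15 = a := by
  calc t 15 * (t 15 * a * t 15) * t 15 = (t 15 * t 15) * a * (t 15 * t 15) := by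
        simp only [mul_assoc]
    _ = a := by rw [h.ff, one_mul, mul_one]

theorem f_A0 (h : Setup t x φ sgn) {a : G} (ha : a ∈ A0 t x φ) : t 15 * a * t 15 ∈ B0 t x φ := by
  induction ha using Subgroup.closure_induction with
  | mem y hy =>
    obtain ⟨v, hv, rfl⟩ := hy
    rw [h.f_cw, h.f_al]
    exact be_mem hv
  | one => rw [mul_one, h.ff]; exact Subgroup.one_mem _
  | mul y z _ _ hy hz => rw [h.f_conj_mul]; exact Subgroup.mul_mem _ hy hz
  | inv y _ hy => rw [h.f_conj_inv]; exact Subgroup.inv_mem _ hy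

theorem f_B0 (h : Setup t x φ sgn) {a : G} (ha : a ∈ B0 t x φ) : t 15 * a * t 15 ∈ A0 t x φ := by
  induction ha using Subgroup.closure_induction with
  | mem y hy =>
    obtain ⟨v, hv, rfl⟩ := hy
    rw [h.f_cw, h.f_be]
    exact al_mem hv
  | one => rw [mul_one, h.ff]; exact Subgroup.one_mem _
  | mul y z _ _ hy hz => rw [h.f_conj_mul]; exact Subgroup.mul_mem _ hy hz
  | inv y _ hy => rw [h.f_conj_inv]; exact Subgroup.inv_mem _ hy

/-- the product of the two factors -/
def DD (h : Setup t x φ sgn) : Subgroup G where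
  carrier := {g | ∃ a ∈ A0 t x φ, ∃ b ∈ B0 t x φ, a * b = g}
  one_mem' := ⟨1, Subgroup.one_mem _, 1, Subgroup.one_mem _, mul_one 1⟩
  mul_mem' := by
    rintro _ _ ⟨a, ha, b, hb, rfl⟩ ⟨a', ha', b', hb', rfl⟩
    refine ⟨a * a', Subgroup.mul_mem _ ha ha', b * b', Subgroup.mul_mem _ hb hb', ?_⟩
    have := h.AB_comm ha' hb
    calc a * a' * (b * b') = a * (a' * b) * b' := by simp only [mul_assoc]
      _ = a * (b * a') * b' := by rw [this]
      _ = a * b * (a' * b') := by simp only [mul_assoc]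
  inv_mem' := by
    rintro _ ⟨a, ha, b, hb, rfl⟩
    refine ⟨a⁻¹, Subgroup.inv_mem _ ha, b⁻¹, Subgroup.inv_mem _ hb, ?_⟩
    rw [← mul_inv_rev, h.AB_comm ha hb]

theorem A0_le (h : Setup t x φ sgn) : A0 t x φ ≤ h.DD := fun a ha =>
  ⟨a, ha, 1, Subgroup.one_mem _, mul_one a⟩

theorem B0_le (h : Setup t x φ sgn) : B0 t x φ ≤ h.DD := fun b hb =>
  ⟨1, Subgroup.one_mem _, b, hb, one_mul b⟩

theorem f_DD (h : Setup t x φ sgn) {g : G} (hg : g ∈ h.DD) : t 15 * g * t 15 ∈ h.DD := by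
  obtain ⟨a, ha, b, hb, rfl⟩ := hg
  rw [h.f_conj_mul]
  exact h.DD.mul_mem (h.B0_le (h.f_A0 ha)) (h.A0_le (h.f_B0 hb))

/-- words in the first thirteen nodes normalise `⟨z⟩` -/
theorem z_word (h : Setup t x φ sgn) {L : List ℕ} (hL : ∀ i ∈ L, i < 13) :
    (φ (ev x L))⁻¹ * z x φ * φ (ev x L) = z x φ ∨
      (φ (ev x L))⁻¹ * z x φ * φ (ev x L) = (z x φ)⁻¹ := by
  induction L with
  | nil => left; simp
  | cons i L ih =>
    have hi := hL i (by simp)
    have h1 := h.u_z hi
    have h2 := Square.inv_of_sq (h.uu (i := i) (by omega))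
    have e : (φ (ev x (i :: L)))⁻¹ * z x φ * φ (ev x (i :: L)) =
        ((φ (ev x L))⁻¹ * z x φ * φ (ev x L))⁻¹ := by
      rw [ev_cons, map_mul, mul_inv_rev, h2]
      calc (φ (ev x L))⁻¹ * φ (x i) * z x φ * (φ (x i) * φ (ev x L))
          = (φ (ev x L))⁻¹ * (φ (x i) * z x φ * φ (x i)) * φ (ev x L) := by
            simp only [mul_assoc]
        _ = _ := by rw [h1]; group
    rw [e]
    rcases ih (fun j hj => hL j (by simp [hj])) with h3 | h3
    · right; rw [h3]
    · left; rw [h3, inv_inv]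

/-- the generation statement -/
theorem gen_mem (h : Setup t x φ sgn) {H : Subgroup G}
    (hH : ∀ v ∈ pth, cw x φ v (z x φ) ∈ H) : ∀ k < 14, φ (x k) ∈ H := by
  intro k hk
  obtain ⟨v, L, hv, hvk, hL, he⟩ := a4_good h.xrel.cox k hk
  have hu := h.uu hk
  have hu' := Square.inv_of_sq hu
  have h1 := hH v hv
  have h2 := hH _ hvk
  have e1 : cw x φ (v ++ [k]) (z x φ) = φ (x k) * cw x φ v (z x φ) * φ (x k) := by
    unfold cw
    rw [ev_append, ev_cons, ev_nil, mul_one, map_mul, mul_inv_rev, hu']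
    simp only [mul_assoc]
  rw [e1] at h2
  have hz3 : cw x φ v (z x φ) ^ 3 = 1 := by
    have : cw x φ v (z x φ) = (φ (ev x v))⁻¹ * z x φ * ((φ (ev x v))⁻¹)⁻¹ := by
      unfold cw; rw [inv_inv]
    rw [this, conj_pow, h.z_cube, mul_one, mul_inv_cancel]
  refine Square.mem_closure hu hz3 ?_ h1 h2
  have hv' := ev_reverse (sq_of_lt h.xrel.cox (pth_lt v hv))
  have hLs : ∀ i ∈ L, x i * x i = 1 := fun i hi => h.xrel.cox.sq i (by have := hL i hi; omega)
  have hL' := ev_reverse hLs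
  have h3 : φ (ev x v) * φ (x k) * (φ (ev x v))⁻¹ = φ (ev x L) * φ (x 13) * (φ (ev x L))⁻¹ := by
    rw [ev_append, ev_append, ev_append, ev_append, hv', hL', ev_cons, ev_nil, mul_one, ev_cons,
      ev_nil, mul_one] at he
    rw [← map_inv, ← map_mul, ← map_mul, he, map_mul, map_mul, map_inv]
  have h4 : φ (x k) * cw x φ v (z x φ) = ((φ (ev x v))⁻¹ * φ (ev x L)) *
      (φ (x 13) * ((φ (ev x L))⁻¹ * z x φ * φ (ev x L))) *
        ((φ (ev x v))⁻¹ * φ (ev x L))⁻¹ := by
    calc φ (x k) * cw x φ v (z x φ)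
        = (φ (ev x v))⁻¹ * (φ (ev x v) * φ (x k) * (φ (ev x v))⁻¹) * z x φ * φ (ev x v) := by
          unfold cw; group
      _ = _ := by rw [h3]; group
  have h5 : (φ (x 13) * z x φ) ^ 3 = 1 := by
    unfold z; rw [← map_mul, ← map_pow, h.zrel.ord, map_one]
  have h6 : (φ (x 13) * (z x φ)⁻¹) ^ 3 = 1 := by
    have e : φ (x 13) * (z x φ)⁻¹ = φ (x 13) * (φ (x 13) * z x φ)⁻¹ * (φ (x 13))⁻¹ := by
      have := Square.inv_of_sq (h.uu (i := 13) (by norm_num))
      rw [mul_inv_rev, this]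
      calc φ (x 13) * (z x φ)⁻¹ = φ (x 13) * (z x φ)⁻¹ * 1 := by rw [mul_one]
        _ = _ := by rw [← h.uu (i := 13) (by norm_num)]; simp only [mul_assoc]
    rw [e, conj_pow, inv_pow, h5, inv_one, mul_one, mul_inv_cancel]
  rw [h4, conj_pow]
  rcases h.z_word hL with h7 | h7
  · rw [h7, h5, mul_one, mul_inv_cancel]
  · rw [h7, h6, mul_one, mul_inv_cancel]

theorem z_sq_sq (h : Setup t x φ sgn) : (z x φ * z x φ) * (z x φ * z x φ) = z x φ := by
  have h3 := h.z_cube
  rw [pow_three'] at h3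
  calc (z x φ * z x φ) * (z x φ * z x φ) = z x φ * z x φ * z x φ * z x φ := by
        simp only [mul_assoc]
    _ = z x φ := by rw [h3, one_mul]

theorem cw_z_mem_DD (h : Setup t x φ sgn) : ∀ v ∈ pth, cw x φ v (z x φ) ∈ h.DD := by
  intro v hv
  rw [← h.z_sq_sq, cw_mul, ← h.al_mul_be, cw_mul]
  have := h.DD.mul_mem (h.A0_le (al_mem hv)) (h.B0_le (be_mem hv))
  exact h.DD.mul_mem this this

theorem phi_x_mem (h : Setup t x φ sgn) : ∀ k < 14, φ (x k) ∈ h.DD := h.gen_mem h.cw_z_mem_DD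

/-- generation by the nodes -/
theorem phi_le (h : Setup t x φ sgn) {H : Subgroup G} (hH : ∀ k < 14, φ (x k) ∈ H) (p : P) :
    φ p ∈ H := by
  have hp : p ∈ Subgroup.closure (nodes 14 x) := by rw [h.xgen]; trivial
  induction hp using Subgroup.closure_induction with
  | mem y hy =>
    obtain ⟨i, hi, rfl⟩ := hy
    exact hH i hi
  | one => rw [map_one]; exact H.one_mem
  | mul y z _ _ hy hz => rw [map_mul]; exact H.mul_mem hy hz
  | inv y _ hy => rw [map_inv]; exact H.inv_mem hy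

theorem phi_mem (h : Setup t x φ sgn) (p : P) : φ p ∈ h.DD := h.phi_le h.phi_x_mem p

theorem fe_mem (h : Setup t x φ sgn) : t 15 * t 14 ∈ h.DD := by
  have h1 : t 15 * t 14 = (z x φ)⁻¹ * al t x φ := by unfold al; group
  rw [h1]
  refine h.DD.mul_mem (h.DD.inv_mem (h.phi_mem _)) (h.A0_le ?_)
  have := al_mem (t := t) (x := x) (φ := φ) nil_mem_pth
  rwa [cw_nil] at this

/-- the group is `DD ∪ f DD` -/
theorem mem_or (h : Setup t x φ sgn) (g : G) : g ∈ h.DD ∨ t 15 * g ∈ h.DD := by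
  have hg : g ∈ Subgroup.closure (nodes 16 t) := by rw [h.gen]; trivial
  have key : ∀ g, t 15 * g ∈ h.DD → g * t 15 ∈ h.DD := by
    intro g hg
    have := h.f_DD hg
    have e : t 15 * (t 15 * g) * t 15 = g * t 15 := by
      rw [← mul_assoc, h.ff, one_mul]
    rwa [e] at this
  induction hg using Subgroup.closure_induction with
  | mem y hy =>
    obtain ⟨i, hi, rfl⟩ := hy
    right
    by_cases h1 : i < 14
    · rw [← h.hphi i h1]; exact h.phi_x_mem i h1
    · have : i = 14 ∨ i = 15 := by omega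
      rcases this with rfl | rfl
      · exact h.fe_mem
      · rw [h.ff]; exact h.DD.one_mem
  | one => left; exact h.DD.one_mem
  | mul y z _ _ hy hz =>
    rcases hy with hy | hy <;> rcases hz with hz | hz
    · left; exact h.DD.mul_mem hy hz
    · right
      have h1 := h.f_DD hy
      have e : t 15 * (y * z) = (t 15 * y * t 15) * (t 15 * z) := by
        calc t 15 * (y * z) = t 15 * y * 1 * z := by rw [mul_one, mul_assoc]
          _ = _ := by rw [← h.ff]; simp only [mul_assoc]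
      rw [e]
      exact h.DD.mul_mem h1 hz
    · right
      rw [← mul_assoc]
      exact h.DD.mul_mem hy hz
    · left
      have h1 := key y hy
      have e : y * z = (y * t 15) * (t 15 * z) := by
        calc y * z = y * 1 * z := by rw [mul_one]
          _ = _ := by rw [← h.ff]; simp only [mul_assoc]
      rw [e]
      exact h.DD.mul_mem h1 hz
  | inv y _ hy =>
    rcases hy with hy | hy
    · left; exact h.DD.inv_mem hy
    · right
      have h1 := h.DD.inv_mem (key y hy)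
      rwa [mul_inv_rev, Square.inv_of_sq h.ff] at h1

theorem sgn_z (h : Setup t x φ sgn) : sgn (z x φ) = 1 := by
  have h1 := congrArg sgn h.z_cube
  rw [map_pow, map_one] at h1
  have h2 := Int.units_mul_self (sgn (z x φ))
  rwa [pow_three', h2, one_mul] at h1

theorem sgn_al (h : Setup t x φ sgn) : sgn (al t x φ) = 1 := by
  unfold al
  rw [map_mul, map_mul, h.sgn_z, h.hsgn 15 (by norm_num), h.hsgn 14 (by norm_num)]
  decide

theorem sgn_be (h : Setup t x φ sgn) : sgn (be t x φ) = 1 := by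
  unfold be
  rw [map_mul, map_mul, h.sgn_z, h.hsgn 15 (by norm_num), h.hsgn 14 (by norm_num)]
  decide

theorem sgn_cw (h : Setup t x φ sgn) (v : List ℕ) (g : G) : sgn (cw x φ v g) = sgn g := by
  unfold cw
  rw [map_mul, map_mul, map_inv, mul_comm _ (sgn g), mul_assoc, inv_mul_cancel, mul_one]

theorem sgn_DD (h : Setup t x φ sgn) {g : G} (hg : g ∈ h.DD) : sgn g = 1 := by
  have hA : A0 t x φ ≤ sgn.ker := by
    refine (Subgroup.closure_le _).mpr ?_
    rintro _ ⟨v, hv, rfl⟩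
    show sgn _ = 1
    rw [h.sgn_cw, h.sgn_al]
  have hB : B0 t x φ ≤ sgn.ker := by
    refine (Subgroup.closure_le _).mpr ?_
    rintro _ ⟨v, hv, rfl⟩
    show sgn _ = 1
    rw [h.sgn_cw, h.sgn_be]
  obtain ⟨a, ha, b, hb, rfl⟩ := hg
  rw [map_mul, show sgn a = 1 from hA ha, show sgn b = 1 from hB hb, mul_one]

theorem mem_DD_of_sgn (h : Setup t x φ sgn) {g : G} (hg : sgn g = 1) : g ∈ h.DD := by
  rcases h.mem_or g with h1 | h1
  · exact h1
  · exfalso
    have := h.sgn_DD h1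
    rw [map_mul, hg, mul_one, h.hsgn 15 (by norm_num)] at this
    exact absurd this (by decide)

theorem al_mem_comm (h : Setup t x φ sgn) : al t x φ ∈ commutator G := by
  have h1 := h.u_al (i := 0) (by norm_num)
  have h2 := Square.inv_of_sq (h.uu (i := 0) (by norm_num))
  have h3 : ⁅φ (x 0), al t x φ⁆ = al t x φ := by
    rw [commutatorElement_def, h2, h1]
    have h4 := h.al_cube
    rw [pow_three'] at h4
    calc (al t x φ)⁻¹ * (al t x φ)⁻¹ = (al t x φ)⁻¹ * (al t x φ)⁻¹ * 1 := by rw [mul_one]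
      _ = (al t x φ)⁻¹ * (al t x φ)⁻¹ * (al t x φ * al t x φ * al t x φ) := by rw [h4]
      _ = al t x φ := by group
  rw [← h3]
  exact Subgroup.commutator_mem_commutator (Subgroup.mem_top _) (Subgroup.mem_top _)

theorem commutator_eq (h : Setup t x φ sgn) : commutator G = h.DD := by
  have hn : (commutator G).Normal := inferInstance
  apply le_antisymm
  · intro g hg
    apply h.mem_DD_of_sgn
    have : commutator G ≤ sgn.ker := Abelianization.commutator_subset_ker sgn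
    exact this hg
  · have hA : A0 t x φ ≤ commutator G := by
      refine (Subgroup.closure_le _).mpr ?_
      rintro _ ⟨v, hv, rfl⟩
      have := hn.conj_mem _ h.al_mem_comm (φ (ev x v))⁻¹
      rwa [inv_inv] at this
    have hb : be t x φ ∈ commutator G := by
      have := hn.conj_mem _ h.al_mem_comm (t 15)
      rwa [Square.inv_of_sq h.ff, h.f_al] at this
    have hB : B0 t x φ ≤ commutator G := by
      refine (Subgroup.closure_le _).mpr ?_
      rintro _ ⟨v, hv, rfl⟩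
      have := hn.conj_mem _ hb (φ (ev x v))⁻¹
      rwa [inv_inv] at this
    rintro _ ⟨a, ha, b, hb, rfl⟩
    exact (commutator G).mul_mem (hA ha) (hB hb)

/-- the map to the diagonal -/
def th (h : Setup t x φ sgn) : A0 t x φ →* G where
  toFun a := a.1 * (t 15 * a.1 * t 15)
  map_one' := by
    show 1 * (t 15 * 1 * t 15) = 1
    rw [one_mul, mul_one, h.ff]
  map_mul' a b := by
    show a.1 * b.1 * (t 15 * (a.1 * b.1) * t 15) =
      a.1 * (t 15 * a.1 * t 15) * (b.1 * (t 15 * b.1 * t 15))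
    have h1 := h.AB_comm b.2 (h.f_A0 a.2)
    rw [h.f_conj_mul]
    calc a.1 * b.1 * ((t 15 * a.1 * t 15) * (t 15 * b.1 * t 15))
        = a.1 * (b.1 * (t 15 * a.1 * t 15)) * (t 15 * b.1 * t 15) := by simp only [mul_assoc]
      _ = a.1 * ((t 15 * a.1 * t 15) * b.1) * (t 15 * b.1 * t 15) := by rw [h1]
      _ = _ := by simp only [mul_assoc]

theorem th_apply (h : Setup t x φ sgn) (a : A0 t x φ) : h.th a = a.1 * (t 15 * a.1 * t 15) := rfl

theorem th_gen (h : Setup t x φ sgn) {v : List ℕ} (hv : v ∈ pth) :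
    h.th ⟨_, al_mem hv⟩ = cw x φ v (z x φ * z x φ) := by
  rw [th_apply]
  show cw x φ v (al t x φ) * (t 15 * cw x φ v (al t x φ) * t 15) = _
  rw [h.f_cw, h.f_al, ← cw_mul, h.al_mul_be]

theorem th_mem (h : Setup t x φ sgn) (a : A0 t x φ) : h.th a ∈ φ.range := by
  have h1 : (⊤ : Subgroup (A0 t x φ)) ≤ φ.range.comap h.th := by
    have h2 : Subgroup.closure (((↑) : A0 t x φ → G) ⁻¹'
        {g | ∃ v ∈ pth, cw x φ v (al t x φ) = g}) = ⊤ := Subgroup.closure_closure_coe_preimage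
    rw [← h2]
    refine (Subgroup.closure_le _).mpr ?_
    rintro a ⟨v, hv, hva⟩
    have : a = ⟨_, al_mem hv⟩ := Subtype.ext hva.symm
    rw [this, SetLike.mem_coe, Subgroup.mem_comap, h.th_gen hv]
    refine ⟨(ev x v)⁻¹ * (ev x zW * ev x zW) * ev x v, ?_⟩
    unfold cw z
    simp only [map_mul, map_inv]
  exact h1 (Subgroup.mem_top a)

theorem phi_mem_th (h : Setup t x φ sgn) (p : P) : φ p ∈ h.th.range := by
  refine h.phi_le (H := h.th.range) (h.gen_mem ?_) p
  intro v hv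
  have h1 : cw x φ v (z x φ * z x φ) ∈ h.th.range := ⟨_, h.th_gen hv⟩
  rw [← h.z_sq_sq, cw_mul]
  exact Subgroup.mul_mem _ h1 h1

/-- the projection onto the presented group -/
noncomputable def pr (h : Setup t x φ sgn) (hφ : Function.Injective φ) : A0 t x φ →* P :=
  (MonoidHom.ofInjective hφ).symm.toMonoidHom.comp (h.th.codRestrict φ.range h.th_mem)

theorem phi_pr (h : Setup t x φ sgn) (hφ : Function.Injective φ) (a : A0 t x φ) :
    φ (h.pr hφ a) = h.th a := by
  have h1 : φ (h.pr hφ a) = ((MonoidHom.ofInjective hφ (h.pr hφ a) : φ.range) : G) := rfl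
  rw [h1]
  unfold pr
  rw [MonoidHom.comp_apply, MulEquiv.coe_toMonoidHom, MulEquiv.apply_symm_apply]
  rfl

theorem pr_ker (h : Setup t x φ sgn) (hφ : Function.Injective φ) {a : A0 t x φ}
    (ha : h.pr hφ a = 1) : a.1 ∈ B0 t x φ := by
  have h1 := h.phi_pr hφ a
  rw [ha, map_one, th_apply] at h1
  have h2 : a.1 = (t 15 * a.1 * t 15)⁻¹ := eq_inv_of_mul_eq_one_left h1.symm
  rw [h2]
  exact Subgroup.inv_mem _ (h.f_A0 a.2)

theorem pr_ext (h : Setup t x φ sgn) (hφ : Function.Injective φ) : Ext (h.pr hφ) := by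
  constructor
  · intro p
    obtain ⟨a, ha⟩ := h.phi_mem_th p
    refine ⟨a, hφ ?_⟩
    rw [h.phi_pr, ha]
  · intro k hk g
    have h1 := h.AB_comm g.2 (h.pr_ker hφ hk)
    exact Subtype.ext h1.symm

theorem A0_perfect (h : Setup t x φ sgn) : commutator (A0 t x φ) = ⊤ := by
  rw [eq_top_iff]
  have h2 : Subgroup.closure (((↑) : A0 t x φ → G) ⁻¹'
      {g | ∃ v ∈ pth, cw x φ v (al t x φ) = g}) = ⊤ := Subgroup.closure_closure_coe_preimage
  rw [← h2]
  refine (Subgroup.closure_le _).mpr ?_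
  rintro a ⟨v, hv, hva⟩
  -- the conjugate of `u₀` inverts the generator
  have h3 : φ ((ev x v)⁻¹ * x 0 * ev x v) ∈ h.DD := h.phi_mem _
  obtain ⟨p, hp, q, hq, hpq⟩ := h3
  have h4 : φ ((ev x v)⁻¹ * x 0 * ev x v) * a.1 * (φ ((ev x v)⁻¹ * x 0 * ev x v))⁻¹ = a.1⁻¹ := by
    rw [← hva]
    have h5 := h.u_al (i := 0) (by norm_num)
    have h6 := Square.inv_of_sq (h.uu (i := 0) (by norm_num))
    simp only [map_mul, map_inv]
    unfold cw
    calc (φ (ev x v))⁻¹ * φ (x 0) * φ (ev x v) * ((φ (ev x v))⁻¹ * al t x φ * φ (ev x v)) *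
          ((φ (ev x v))⁻¹ * φ (x 0) * φ (ev x v))⁻¹
        = (φ (ev x v))⁻¹ * (φ (x 0) * al t x φ * (φ (x 0))⁻¹) * φ (ev x v) := by group
      _ = _ := by rw [h6, h5]; group
  have h7 : a.1 ^ 3 = 1 := by
    rw [← hva]
    have : cw x φ v (al t x φ) = (φ (ev x v))⁻¹ * al t x φ * ((φ (ev x v))⁻¹)⁻¹ := by
      unfold cw; rw [inv_inv]
    rw [this, conj_pow, h.al_cube, mul_one, mul_inv_cancel]
  have h8 : p * a.1 * p⁻¹ = a.1⁻¹ := by
    rw [← h4, ← hpq]
    have := h.AB_comm a.2 hq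
    calc p * a.1 * p⁻¹ = p * (a.1 * q) * q⁻¹ * p⁻¹ := by group
      _ = p * (q * a.1) * q⁻¹ * p⁻¹ := by rw [this]
      _ = _ := by group
  have h9 : ⁅(⟨p, hp⟩ : A0 t x φ), a⁆ = a := by
    apply Subtype.ext
    show p * a.1 * p⁻¹ * a.1⁻¹ = a.1
    rw [h8]
    rw [pow_three'] at h7
    calc a.1⁻¹ * a.1⁻¹ = a.1⁻¹ * a.1⁻¹ * 1 := by rw [mul_one]
      _ = a.1⁻¹ * a.1⁻¹ * (a.1 * a.1 * a.1) := by rw [h7]
      _ = a.1 := by group
  rw [SetLike.mem_coe, ← h9]
  exact Subgroup.commutator_mem_commutator (Subgroup.mem_top _) (Subgroup.mem_top _)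

end

/-- **Closing**: the centraliser of `f` in the commutator subgroup is the diagonal. -/
theorem centralizer_eq {G P : Type} [Group G] [Group P]
    {t : ℕ → G} {x : ℕ → P} {φ : P →* G} {sgn : G →* ℤˣ}
    (h : Setup t x φ sgn) (hF : FiFacts) (hφ : Function.Injective φ) (hU : Univ.{0} x)
    (hZ : ∀ c : P, (∀ p, c * p = p * c) → c = 1) :
    Subgroup.centralizer {t 15} ⊓ commutator G = φ.range := by
  have hcube := (h.pr_ext hφ).cube_eq_one hF h.A0_perfect h.xrel h.xgen hU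
  apply le_antisymm
  · rintro g ⟨hg1, hg2⟩
    have hg2' : g ∈ h.DD := by rw [← h.commutator_eq]; exact hg2
    obtain ⟨a, ha, b, hb, rfl⟩ := hg2'
    have hg3 : t 15 * (a * b) = (a * b) * t 15 :=
      (Subgroup.mem_centralizer_iff.mp hg1) (t 15) rfl
    have hg4 : t 15 * (a * b) * t 15 = a * b := by
      rw [hg3, mul_assoc, h.ff, mul_one]
    have hfa := h.f_A0 ha
    have hfb := h.f_B0 hb
    rw [h.f_conj_mul, ← h.AB_comm hfb hfa] at hg4
    -- `c = a⁻¹ (f b f) = b (f a f)⁻¹`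
    obtain ⟨c, hc⟩ : ∃ c, c = a⁻¹ * (t 15 * b * t 15) := ⟨_, rfl⟩
    have hc1 : c = b * (t 15 * a * t 15)⁻¹ := by
      calc c = a⁻¹ * ((t 15 * b * t 15) * (t 15 * a * t 15)) * (t 15 * a * t 15)⁻¹ := by
            rw [hc]; group
        _ = a⁻¹ * (a * b) * (t 15 * a * t 15)⁻¹ := by rw [hg4]
        _ = _ := by group
    have hcA : c ∈ A0 t x φ := by
      rw [hc]; exact Subgroup.mul_mem _ (Subgroup.inv_mem _ ha) hfb
    have hcB : c ∈ B0 t x φ := by
      rw [hc1]; exact Subgroup.mul_mem _ hb (Subgroup.inv_mem _ hfa)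
    have hcD : ∀ g ∈ h.DD, c * g = g * c := by
      rintro _ ⟨a', ha', b', hb', rfl⟩
      have h1 := h.AB_comm ha' hcB
      have h2 := h.AB_comm hcA hb'
      calc c * (a' * b') = (c * a') * b' := by rw [mul_assoc]
        _ = (a' * c) * b' := by rw [h1]
        _ = a' * (c * b') := by rw [mul_assoc]
        _ = a' * (b' * c) := by rw [h2]
        _ = _ := by rw [mul_assoc]
    have e1 : t 15 * b * t 15 = a * c := by rw [hc]; group
    have e2 : b = c * (t 15 * a * t 15) := by rw [hc1]; group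
    have hfc : t 15 * c * t 15 = c := by
      have e3 : t 15 * b * t 15 = (t 15 * c * t 15) * a := by
        rw [e2, h.f_conj_mul, h.f_conj_conj]
      rw [e1, ← hcD a (h.A0_le ha)] at e3
      exact (mul_right_cancel e3).symm
    -- `θ c = c²` is central
    have hth : h.th ⟨c, hcA⟩ = c * c := by rw [th_apply, hfc]
    have hπc : h.pr hφ ⟨c, hcA⟩ = 1 := by
      apply hZ
      intro p
      apply hφ
      rw [map_mul, map_mul, h.phi_pr, hth]
      have h1 := hcD _ (h.phi_mem p)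
      calc c * c * φ p = c * (c * φ p) := by rw [mul_assoc]
        _ = c * (φ p * c) := by rw [h1]
        _ = (c * φ p) * c := by rw [mul_assoc]
        _ = φ p * c * c := by rw [h1]
        _ = _ := by rw [mul_assoc]
    have hc2 : c * c = 1 := by rw [← hth, ← h.phi_pr hφ, hπc, map_one]
    have hc3 : c ^ 3 = 1 := congrArg Subtype.val (hcube ⟨c, hcA⟩ hπc)
    have hc4 : c = 1 := by rwa [pow_three', hc2, one_mul] at hc3
    rw [hc4, one_mul] at e2
    rw [e2]
    exact h.th_mem ⟨a, ha⟩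
  · rintro _ ⟨p, rfl⟩
    have h1 : φ p ∈ Subgroup.centralizer {t 15} := by
      rw [Subgroup.mem_centralizer_iff]
      rintro _ rfl
      exact h.f_phi p
    have h2 : φ p ∈ commutator G := by
      rw [h.commutator_eq]; exact h.phi_mem p
    exact ⟨h1, h2⟩

end Setup

end Cfsg.Agent.Bimonster
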