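import Cfsg.Agent.Bimonster.Fi
import Cfsg.Agent.BM.Psi

/-! # The three facts about the presented group `Fi23` used for the Bimonster -/

set_option autoImplicit false
set_option maxRecDepth 100000

namespace Cfsg.Agent.Bimonster

open Tits Cfsg.Spor

theorem ev_fiW (w : List ℕ) : ev fiW w = Cfsg.Agent.Fischer.Fi23Orb.word (w.map fiGen) := by
  unfold ev Cfsg.Agent.Fischer.Fi23Orb.word
  rw [List.map_map]
  rfl

theorem fi_eq {w w' : List ℕ}
    (h : Cfsg.Agent.BM.Psi.eqB (w.map fiGen) (w'.map fiGen) = true) : ev fiW w = ev fiW w' := by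
  rw [ev_fiW, ev_fiW]
  exact Cfsg.Agent.BM.Psi.word_eq_of_eqB h

theorem fi_facts : FiFacts := by
  refine ⟨?_, ?_, ?_⟩
  · have h : ev fiW (rep 9 f3b) = ev fiW [] := fi_eq (by decide +kernel)
    rwa [ev_rep, ev_nil] at h
  · have h : ev fiW (rep 9 f1a) = ev fiW (rep 9 f1b) := fi_eq (by decide +kernel)
    rwa [ev_rep, ev_rep] at h
  · have h : ev fiW (rep 9 f1a ++ [4] ++ rep 9 f1a) = ev fiW ([4] ++ rep 9 f1a ++ [4]) :=
      fi_eq (by decide +kernel)
    simpa only [ev_append, ev_rep, ev_cons, ev_nil, mul_one] using h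

end Cfsg.Agent.Bimonster
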