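import Cfsg.Agent.Bimonster.Bim
import Cfsg.Prelude.Def_Sporadic

/-! # The final assembly for the presented Monster -/

set_option autoImplicit false

namespace Cfsg.Agent.Bimonster

open Tits Cfsg.Spor

theorem isM_center {M : Type} [Group M] (hM : IsM M) (c : M) (hc : ∀ p, c * p = p * c) :
    c = 1 := by
  obtain ⟨hs, hcard⟩ := hM
  have : Finite M := Nat.finite_of_card_ne_zero (by rw [hcard]; norm_num)
  rcases (Subgroup.center M).normal_of_characteristic.eq_bot_or_eq_top with h | h
  · have h1 : c ∈ Subgroup.center M := Subgroup.mem_center_iff.mpr fun g => (hc g).symm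
    rw [h] at h1
    exact Subgroup.mem_bot.mp h1
  · exfalso
    have hcomm : ∀ a b : M, a * b = b * a := by
      intro a b
      have h1 : b ∈ Subgroup.center M := by rw [h]; trivial
      exact Subgroup.mem_center_iff.mp h1 a
    let _ : CommGroup M := { (inferInstance : Group M) with mul_comm := hcomm }
    have h2 : (Nat.card M).Prime := IsSimpleGroup.prime_card
    rw [hcard] at h2
    have h3 : 2 ∣ 808017424794512875886459904961710757005754368000000000 := by norm_num
    have h4 := (Nat.prime_dvd_prime_iff_eq Nat.prime_two h2).mp h3
    norm_num at h4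

/-- **S1705 from the model**: the group `M` is the model of the Monster, `y` are its elements
satisfying the relations, and the order of the presented group is bounded. -/
theorem isM_monster (hF : FiFacts) {M : Type} [Group M] (hM : IsM M) {y : ℕ → M} (hy : PRel y)
    (hz : ZRel y) (hgen : Subgroup.closure (nodes 14 y) = ⊤) (hfin : Finite PM)
    (hcard : Nat.card PM ≤ 808017424794512875886459904961710757005754368000000000) :
    IsM Spor.Monster := by
  have : Finite M := Nat.finite_of_card_ne_zero (by rw [hM.2]; norm_num)
  obtain ⟨e⟩ := monster_equiv hF hy hz hgen (isM_center hM) hfin (by rw [hM.2]; exact hcard)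
  have := hM.1
  exact ⟨e.isSimpleGroup, by rw [Nat.card_congr e.toEquiv, hM.2]⟩

/-- the bound in the form in which an enumeration gives it -/
theorem isM_monster' (hF : FiFacts) {M : Type} [Group M] (hM : IsM M) {y : ℕ → M} (hy : PRel y)
    (hz : ZRel y) (hgen : Subgroup.closure (nodes 14 y) = ⊤)
    (H1 : ∀ (E : Type) [Group E] (v : ℕ → E), PRel v → Finite (Subgroup.closure (nodes 14 v)) ∧
      Nat.card (Subgroup.closure (nodes 14 v)) ≤
        808017424794512875886459904961710757005754368000000000) :
    IsM Spor.Monster := by
  obtain ⟨h1, h2⟩ := H1 PM xM xM_prel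
  rw [xM_gen] at h1 h2
  have hfin : Finite PM := Finite.of_equiv _ Subgroup.topEquiv.toEquiv
  rw [Nat.card_congr Subgroup.topEquiv.toEquiv] at h2
  exact isM_monster hF hM hy hz hgen hfin h2

end Cfsg.Agent.Bimonster
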