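import Cfsg.Agent.Bimonster.Tits

/-!
# The graph `Y555` and the relations of the Bimonster presentation

Letters: `a = 0`, arm 1 = `1 .. 5`, arm 2 = `6 .. 10`, arm 3 = `11 .. 15` (in this order from the centre `a`).
-/

set_option autoImplicit false

namespace Cfsg.Agent.Bimonster

open Tits

/-- parent table of the tree `Y555` rooted at the centre, base 32 -/
def parN : ℕ := 544708151567523330982943

/-- parent of a node -/
def par (i : ℕ) : ℕ := (parN >>> (5 * i)) % 32

/-- adjacency in `Y555` (for letters below 16) -/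
def adjB (i j : ℕ) : Bool := Nat.beq (par i) j || Nat.beq (par j) i

/-- moves for the letters below `n` -/
def rules (n : ℕ) : Rules where
  sq i := Nat.blt i n
  cm i j := Nat.blt i n && Nat.blt j n && !adjB i j
  br i j := Nat.blt i n && Nat.blt j n && adjB i j

variable {G : Type*} [Group G]

/-- the Coxeter relations on the letters below `n` -/
structure CoxRel (n : ℕ) (t : ℕ → G) : Prop where
  sq : ∀ i < n, t i * t i = 1
  cm : ∀ i < n, ∀ j < n, adjB i j = false → t i * t j = t j * t i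
  br : ∀ i < n, ∀ j < n, adjB i j = true → t i * t j * t i = t j * t i * t j

/-- the Artin relations on the letters below `n`, with a common central square -/
structure ArtRel (n : ℕ) (t : ℕ → G) (z : G) : Prop where
  sq : ∀ i < n, t i * t i = z
  cm : ∀ i < n, ∀ j < n, adjB i j = false → t i * t j = t j * t i
  br : ∀ i < n, ∀ j < n, adjB i j = true → t i * t j * t i = t j * t i * t j
  central : ∀ g : G, z * g = g * z

theorem adjB_comm (i j : ℕ) : adjB i j = adjB j i := by
  unfold adjB; rw [Bool.or_comm]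

theorem ArtRel.valid {n : ℕ} {t : ℕ → G} {z : G} (h : ArtRel n t z) : Valid (rules n) t z where
  sq i hi := h.sq i (by simpa [rules] using hi)
  cm i j hij := by
    simp only [rules, Bool.and_eq_true, Nat.blt_eq, Bool.not_eq_true'] at hij
    exact h.cm i hij.1.1 j hij.1.2 hij.2
  br i j hij := by
    simp only [rules, Bool.and_eq_true, Nat.blt_eq] at hij
    exact h.br i hij.1.1 j hij.1.2 hij.2
  central := h.central

theorem CoxRel.art {n : ℕ} {t : ℕ → G} (h : CoxRel n t) : ArtRel n t 1 where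
  sq := h.sq
  cm := h.cm
  br := h.br
  central g := by simp

theorem CoxRel.valid {n : ℕ} {t : ℕ → G} (h : CoxRel n t) : Valid (rules n) t 1 := h.art.valid

theorem CoxRel.mono {m n : ℕ} (hmn : m ≤ n) {t : ℕ → G} (h : CoxRel n t) : CoxRel m t where
  sq i hi := h.sq i (lt_of_lt_of_le hi hmn)
  cm i hi j hj := h.cm i (lt_of_lt_of_le hi hmn) j (lt_of_lt_of_le hj hmn)
  br i hi j hj := h.br i (lt_of_lt_of_le hi hmn) j (lt_of_lt_of_le hj hmn)

theorem CoxRel.map {H : Type*} [Group H] (f : G →* H) {n : ℕ} {t : ℕ → G} (h : CoxRel n t) :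
    CoxRel n (fun i => f (t i)) where
  sq i hi := by simp only [← map_mul, h.sq i hi, map_one]
  cm i hi j hj hij := by simp only [← map_mul, h.cm i hi j hj hij]
  br i hi j hj hij := by simp only [← map_mul, h.br i hi j hj hij]

/-- the spider word -/
def spW : List ℕ := [0, 1, 2, 0, 6, 7, 0, 11, 12]
/-- `a b1 b2 b3 c1 c2 d1` -/
def f1a : List ℕ := [0, 1, 6, 11, 2, 7, 3]
/-- `a b1 b3 b2 c1 c3 d1` -/
def f1b : List ℕ := [0, 1, 11, 6, 2, 12, 3]
/-- `a b2 b1 b3 c2 c1 d2` -/
def f2a : List ℕ := [0, 6, 1, 11, 7, 2, 8]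
/-- `a b2 b3 b1 c2 c3 d2` -/
def f2b : List ℕ := [0, 6, 11, 1, 7, 12, 8]
/-- `a b3 b1 b2 c3 c1 d3` -/
def f3a : List ℕ := [0, 11, 1, 6, 12, 2, 13]
/-- `a b3 b2 b1 c3 c2 d3` -/
def f3b : List ℕ := [0, 11, 6, 1, 12, 7, 13]
/-- the highest root of the `D₄` with the centre `a` -/
def t4W : List ℕ := [0, 11, 6, 1, 0, 1, 6, 11, 0]
/-- the highest root of the `D₆` with the arm `b c d` -/
def t6W (b c d : ℕ) : List ℕ := c :: t4W ++ (d :: b :: c :: b :: d :: t4W ++ [c])
/-- a word `p` such that `c₃` and its conjugate by `p` commute up to `ζ` -/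
def pW : List ℕ :=
  t6W 6 7 8 ++ 9 :: t6W 1 2 3 ++ 4 :: 7 :: t6W 1 2 3 ++ 2 :: t6W 6 7 8 ++ [11]
/-- the word for the element `ζ` of order 3 (in the nodes of `Y542`); up to the sign of the exponent it is the
17th power of `a b₁ c₁ d₁ e₁ f₁ a b₂ c₂ d₂ e₂ a b₃ c₃` -/
def zW : List ℕ := rep 2 (pW ++ 12 :: pW.reverse ++ [12])

/-- the relations of the presentation of the Bimonster -/
structure BiRel (t : ℕ → G) : Prop where
  cox : CoxRel 16 t
  spider : ev t spW ^ 10 = 1
  f1a : t 5 = ev t f1a ^ 9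
  f1b : t 5 = ev t f1b ^ 9
  f2a : t 10 = ev t f2a ^ 9
  f2b : t 10 = ev t f2b ^ 9
  f3a : t 15 = ev t f3a ^ 9
  f3b : t 15 = ev t f3b ^ 9

/-- the relations of the presentation of the Monster on the nodes of `Y553` -/
structure PRel (t : ℕ → G) : Prop where
  cox : CoxRel 14 t
  spider : ev t spW ^ 10 = 1
  f1a : t 5 = ev t f1a ^ 9
  f1b : t 5 = ev t f1b ^ 9
  f2a : t 10 = ev t f2a ^ 9
  f2b : t 10 = ev t f2b ^ 9
  f3a : ev t f3a ^ 9 = 1
  f3b : ev t f3b ^ 9 = 1

/-- the relations for the element `ζ` (true in the Monster) -/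
structure ZRel (t : ℕ → G) : Prop where
  cube : ev t zW ^ 3 = 1
  inv : ∀ i < 13, t i * ev t zW * t i = (ev t zW)⁻¹
  ord : (t 13 * ev t zW) ^ 3 = 1

theorem PRel.map {H : Type*} [Group H] (f : G →* H) {t : ℕ → G} (h : PRel t) :
    PRel (fun i => f (t i)) where
  cox := h.cox.map f
  spider := by rw [← map_ev, ← map_pow, h.spider, map_one]
  f1a := by rw [← map_ev, ← map_pow, ← h.f1a]
  f1b := by rw [← map_ev, ← map_pow, ← h.f1b]
  f2a := by rw [← map_ev, ← map_pow, ← h.f2a]
  f2b := by rw [← map_ev, ← map_pow, ← h.f2b]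
  f3a := by rw [← map_ev, ← map_pow, h.f3a, map_one]
  f3b := by rw [← map_ev, ← map_pow, h.f3b, map_one]

/-- the set of nodes below `n` -/
def nodes (n : ℕ) (t : ℕ → G) : Set G := {g | ∃ i < n, t i = g}

end Cfsg.Agent.Bimonster
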