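import Cfsg.Agent.Bimonster.Words
import Cfsg.Agent.Bimonster.Certs2

/-! # Lifting the node involutions to a central extension -/

set_option autoImplicit false
set_option linter.unusedVariables false

namespace Cfsg.Agent.Bimonster

open Tits
open scoped commutatorElement

variable {E P : Type*} [Group E] [Group P]

/-- a central extension -/
structure Ext (π : E →* P) : Prop where
  surj : Function.Surjective π
  cen : ∀ k, π k = 1 → ∀ g, k * g = g * k

namespace Ext

variable {π : E →* P}

theorem eq_mul (h : Ext π) {a b : E} (hab : π a = π b) : ∃ k, π k = 1 ∧ a = k * b :=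
  ⟨a * b⁻¹, by rw [map_mul, map_inv, hab, mul_inv_cancel], by group⟩

/-- lifts with exact braid relations along the tree -/
theorem exists_lift (h : Ext π) {x : ℕ → P} (hx : CoxRel 14 x) :
    ∃ y : ℕ → E, (∀ i, π (y i) = x i) ∧
      ∀ j, 0 < j → j < 14 → y (par j) * y j * y (par j) = y j * y (par j) * y j := by
  have key : ∀ n, n ≤ 14 → ∃ y : ℕ → E, (∀ i, π (y i) = x i) ∧
      ∀ j, 0 < j → j < n → y (par j) * y j * y (par j) = y j * y (par j) * y j := by
    intro n
    induction n with
    | zero =>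
      intro _
      choose y hy using fun i => h.surj (x i)
      exact ⟨y, hy, fun j h1 h2 => absurd h2 (by omega)⟩
    | succ n ih =>
      intro hn
      obtain ⟨y, hy, hb⟩ := ih (by omega)
      by_cases h0 : n = 0
      · subst h0
        exact ⟨y, hy, fun j h1 h2 => absurd h2 (by omega)⟩
      have hp : ∀ m < 14, 0 < m → par m < m ∧ adjB (par m) m = true := by decide
      obtain ⟨hp1, hp2⟩ := hp n (by omega) (by omega)
      have hbr := hx.br (par n) (by omega) n (by omega) hp2
      obtain ⟨k, hk, hk2⟩ := h.eq_mul (a := y (par n) * y n * y (par n))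
        (b := y n * y (par n) * y n) (by simp only [map_mul, hy, hbr])
      refine ⟨Function.update y n (k * y n), ?_, ?_⟩
      · intro i
        by_cases hi : i = n
        · subst hi
          rw [Function.update_self, map_mul, hk, one_mul, hy]
        · rw [Function.update_of_ne hi, hy]
      · intro j h1 h2
        have hpj := (hp j (by omega) h1).1
        rw [Function.update_of_ne (show par j ≠ n by omega)]
        by_cases hj : j = n
        · subst hj
          rw [Function.update_self]
          have hc := h.cen k hk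
          calc y (par j) * (k * y j) * y (par j)
              = (y (par j) * k) * y j * y (par j) := by group
            _ = k * (y (par j) * y j * y (par j)) := by rw [← hc]; group
            _ = k * (k * (y j * y (par j) * y j)) := by rw [hk2]
            _ = k * (k * (y j * y (par j))) * y j := by simp only [mul_assoc]
            _ = k * (y j * y (par j) * k) * y j := by rw [hc (y j * y (par j))]
            _ = k * y j * y (par j) * (k * y j) := by simp only [mul_assoc]
        · rw [Function.update_of_ne hj]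
          exact hb j h1 (by omega)
  exact key 14 le_rfl

/-- commutators of elements with commuting images are central -/
theorem comm_cen (h : Ext π) {g k : E} (hgk : π g * π k = π k * π g) :
    π ⁅g, k⁆ = 1 := by
  rw [commutatorElement_def, map_mul, map_mul, map_mul, map_inv, map_inv, hgk]; group

theorem comm_mul (h : Ext π) {g a b : E} (hb : π ⁅g, b⁆ = 1) :
    ⁅g, a * b⁆ = ⁅g, a⁆ * ⁅g, b⁆ := by
  have hc := h.cen _ hb
  calc ⁅g, a * b⁆ = ⁅g, a⁆ * a * ⁅g, b⁆ * a⁻¹ := by simp only [commutatorElement_def]; group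
    _ = ⁅g, a⁆ * (⁅g, b⁆ * a) * a⁻¹ := by rw [hc]; group
    _ = _ := by group

theorem comm_inv' (g a : E) : ⁅a, g⁆ = ⁅g, a⁆⁻¹ := by
  simp only [commutatorElement_def]; group

/-- the basic step: adjacent nodes have the same commutator with a third one -/
theorem comm_adj (h : Ext π) {g a b : E} (ha : π ⁅g, a⁆ = 1) (hb : π ⁅g, b⁆ = 1)
    (hab : a * b * a = b * a * b) : ⁅g, a⁆ = ⁅g, b⁆ := by
  have h1 : a * b * a = b * (a * b) := by rw [hab]; group
  have h2 : π ⁅g, a * b⁆ = 1 := by rw [h.comm_mul hb, map_mul, ha, hb, mul_one]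
  have h3 : ⁅g, a * b * a⁆ = ⁅g, a * b⁆ * ⁅g, a⁆ := h.comm_mul ha
  have h4 : ⁅g, b * (a * b)⁆ = ⁅g, b⁆ * ⁅g, a * b⁆ := h.comm_mul h2
  rw [h1, h4, h.cen _ hb] at h3
  exact (mul_left_cancel h3).symm

theorem comm_sq (h : Ext π) {g a : E} (hg : π (g * g) = 1) (ha : π ⁅g, a⁆ = 1) :
    ⁅g, a⁆ * ⁅g, a⁆ = 1 := by
  have hc := h.cen _ ha
  have h1 : ⁅g * g, a⁆ = 1 := by
    rw [commutatorElement_def, h.cen _ hg]; group
  have h2 : ⁅g * g, a⁆ = g * ⁅g, a⁆ * g⁻¹ * ⁅g, a⁆ := by
    simp only [commutatorElement_def]; group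
  have h3 : g * ⁅g, a⁆ * g⁻¹ = ⁅g, a⁆ := by rw [← hc g, mul_assoc, mul_inv_cancel, mul_one]
  rwa [h2, h3] at h1

theorem comm_ev (h : Ext π) {g : E} {y : ℕ → E} {c : E} {w : List ℕ} (hc : π c = 1)
    (hw : ∀ i ∈ w, ⁅g, y i⁆ = c) : ⁅g, ev y w⁆ = c ^ w.length ∧ π ⁅g, ev y w⁆ = 1 := by
  have h1 : ∀ n : ℕ, π (c ^ n) = 1 := fun n => by rw [map_pow, hc, one_pow]
  have h2 : ⁅g, ev y w⁆ = c ^ w.length := by
    induction w with
    | nil => simp [commutatorElement_def]
    | cons i w ih =>
      have ih' := ih fun j hj => hw j (by simp [hj])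
      rw [ev_cons, h.comm_mul (by rw [ih', h1]), ih', hw i (by simp), List.length_cons, pow_succ']
  exact ⟨h2, by rw [h2, h1]⟩

theorem closeP_sound {R : ℕ → ℕ → Prop} (hs : ∀ i j, R i j → R j i)
    (hstep : ∀ i < 14, ∀ j < 14, ∀ k < 14, R i j → adjB j k = true → adjB i j = false →
      adjB i k = false → R i k) {s : List (ℕ × ℕ × ℕ)} {l l' : List (ℕ × ℕ)}
    (hl : ∀ p ∈ l, R p.1 p.2) (hc : closeP s l = some l') : ∀ p ∈ l', R p.1 p.2 := by
  induction s generalizing l with
  | nil =>
    simp only [closeP, Option.some.injEq] at hc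
    rw [← hc]; exact hl
  | cons a s ih =>
    obtain ⟨i, j, k⟩ := a
    rw [closeP] at hc
    split_ifs at hc with hif
    simp only [Bool.and_eq_true, Nat.blt_eq, Bool.not_eq_true'] at hif
    obtain ⟨⟨⟨⟨⟨⟨hi, hj⟩, hk⟩, hp⟩, h1⟩, h2⟩, h3⟩ := hif
    refine ih ?_ hc
    intro p hp'
    rcases List.mem_cons.mp hp' with rfl | hp'
    · refine hstep i hi j hj k hk ?_ h1 h2 h3
      unfold hasP at hp
      rw [Bool.or_eq_true, List.contains_iff_mem, List.contains_iff_mem] at hp
      rcases hp with hp | hp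
      · exact hl _ hp
      · exact hs _ _ (hl _ hp)
    · exact hl p hp'

/-- the lifts commute as they should -/
theorem lift_comm (h : Ext π) {x : ℕ → P} (hx : CoxRel 14 x) (hx3 : ev x f3a ^ 9 = 1) {y : ℕ → E}
    (hy : ∀ i, π (y i) = x i)
    (hb : ∀ i < 14, ∀ j < 14, adjB i j = true → y i * y j * y i = y j * y i * y j) :
    ∀ i < 14, ∀ j < 14, adjB i j = false → y i * y j = y j * y i := by
  have hcen : ∀ i < 14, ∀ j < 14, adjB i j = false → π ⁅y i, y j⁆ = 1 := by
    intro i hi j hj hij
    apply h.comm_cen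
    rw [hy, hy]
    exact hx.cm i hi j hj hij
  have hadj : ∀ i < 14, ∀ j < 14, ∀ k < 14, adjB j k = true → adjB i j = false →
      adjB i k = false → ⁅y i, y j⁆ = ⁅y i, y k⁆ := by
    intro i hi j hj k hk hjk hij hik
    exact h.comm_adj (hcen i hi j hj hij) (hcen i hi k hk hik) (hb j hj k hk hjk)
  -- the node 4 against the node 13
  have h413 : ⁅y 4, y 13⁆ = 1 := by
    set c := ⁅y 4, y 13⁆ with hc
    have hc1 : π c = 1 := hcen 4 (by norm_num) 13 (by norm_num) (by decide)
    have e12 : ⁅y 4, y 12⁆ = c := (hadj 4 (by norm_num) 13 (by norm_num) 12 (by norm_num)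
      (by decide) (by decide) (by decide)).symm
    have e11 : ⁅y 4, y 11⁆ = c := by
      rw [← e12]; exact (hadj 4 (by norm_num) 12 (by norm_num) 11 (by norm_num)
        (by decide) (by decide) (by decide)).symm
    have e0 : ⁅y 4, y 0⁆ = c := by
      rw [← e11]; exact (hadj 4 (by norm_num) 11 (by norm_num) 0 (by norm_num)
        (by decide) (by decide) (by decide)).symm
    have e1 : ⁅y 4, y 1⁆ = c := by
      rw [← e0]; exact (hadj 4 (by norm_num) 0 (by norm_num) 1 (by norm_num)
        (by decide) (by decide) (by decide)).symm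
    have e2 : ⁅y 4, y 2⁆ = c := by
      rw [← e1]; exact (hadj 4 (by norm_num) 1 (by norm_num) 2 (by norm_num)
        (by decide) (by decide) (by decide)).symm
    have e6 : ⁅y 4, y 6⁆ = c := by
      rw [← e0]; exact (hadj 4 (by norm_num) 0 (by norm_num) 6 (by norm_num)
        (by decide) (by decide) (by decide)).symm
    have hw : ∀ i ∈ rep 9 f3a, ⁅y 4, y i⁆ = c := by
      have : ∀ i ∈ rep 9 f3a, i = 0 ∨ i = 11 ∨ i = 1 ∨ i = 6 ∨ i = 12 ∨ i = 2 ∨ i = 13 := by
        decide
      intro i hi
      rcases this i hi with rfl | rfl | rfl | rfl | rfl | rfl | rfl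
      exacts [e0, e11, e1, e6, e12, e2, hc.symm]
    have h1 := (h.comm_ev hc1 hw).1
    have hlen : (rep 9 f3a).length = 63 := by decide
    rw [hlen] at h1
    have hW : π (ev y (rep 9 f3a)) = 1 := by
      rw [map_ev, show (fun i => π (y i)) = x from funext hy, ev_rep, hx3]
    have h2 : ⁅y 4, ev y (rep 9 f3a)⁆ = 1 := by
      rw [commutatorElement_def, ← h.cen _ hW]; group
    have hy4 : π (y 4 * y 4) = 1 := by
      rw [map_mul, hy, hx.sq 4 (by norm_num)]
    have h3 : c * c = 1 := h.comm_sq hy4 hc1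
    rw [h2] at h1
    have h4 : c ^ 63 = c := by
      rw [show (63 : ℕ) = 2 * 31 + 1 by norm_num, pow_succ, pow_mul, pow_two, h3, one_pow, one_mul]
    rw [← h4]; exact h1.symm
  -- all pairs
  have hok := allP_ok
  unfold allP at hok
  split at hok
  · rename_i l hl
    have hR := closeP_sound (R := fun i j => ⁅y i, y j⁆ = 1)
      (fun i j hij => by rw [comm_inv', hij, inv_one])
      (fun i hi j hj k hk hij hjk h1 h2 => by rw [← hadj i hi j hj k hk hjk h1 h2]; exact hij)
      (l := [(4, 13)]) (by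
        intro p hp
        rw [List.mem_singleton] at hp
        rw [hp]; exact h413) hl
    rw [List.all_eq_true] at hok
    intro i hi j hj hij
    have h1 := hok i (List.mem_range.mpr hi)
    rw [List.all_eq_true] at h1
    have h2 := h1 j (List.mem_range.mpr hj)
    rw [hij, Bool.false_or, Bool.or_eq_true] at h2
    rcases h2 with h2 | h2
    · obtain rfl := Nat.eq_of_beq_eq_true h2
      rfl
    · unfold hasP at h2
      rw [Bool.or_eq_true, List.contains_iff_mem, List.contains_iff_mem] at h2
      have h3 : ⁅y i, y j⁆ = 1 := by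
        rcases h2 with h2 | h2
        · exact hR _ h2
        · have := hR _ h2
          rw [comm_inv', this, inv_one]
      exact commutatorElement_eq_one_iff_mul_comm.mp h3
  · simp at hok

/-- the squares of the lifts are equal and central -/
theorem lift_sq (h : Ext π) {x : ℕ → P} (hx : CoxRel 14 x) {y : ℕ → E}
    (hy : ∀ i, π (y i) = x i)
    (hb : ∀ j, 0 < j → j < 14 → y (par j) * y j * y (par j) = y j * y (par j) * y j) :
    ∀ j < 14, y j * y j = y 0 * y 0 := by
  have hp : ∀ m < 14, 0 < m → par m < m := by decide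
  intro j
  induction j using Nat.strong_induction_on with
  | _ j ih =>
    intro hj
    by_cases h0 : j = 0
    · rw [h0]
    have hj0 : 0 < j := by omega
    have hpj := hp j hj hj0
    rw [← ih (par j) hpj (by omega)]
    have hbr := hb j hj0 hj
    have hc := h.cen (y (par j) * y (par j)) (by rw [map_mul, hy, hx.sq _ (by omega)])
    -- `y j = (y p * y j) * y p * (y p * y j)⁻¹`
    have e : y j = (y (par j) * y j) * y (par j) * (y (par j) * y j)⁻¹ := by
      rw [show y (par j) * y j * y (par j) = y j * (y (par j) * y j) by rw [hbr]; group]; group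
    calc y j * y j = ((y (par j) * y j) * y (par j) * (y (par j) * y j)⁻¹) *
          ((y (par j) * y j) * y (par j) * (y (par j) * y j)⁻¹) := by rw [← e]
      _ = (y (par j) * y j) * (y (par j) * y (par j)) * (y (par j) * y j)⁻¹ := by group
      _ = y (par j) * y (par j) := by rw [← hc]; group

/-- scaling of a word -/
theorem ev_scale {k : E} (hk : ∀ g, k * g = g * k) (y : ℕ → E) (w : List ℕ) :
    ev (fun i => k * y i) w = k ^ w.length * ev y w := by
  induction w with
  | nil => simp
  | cons i w ih =>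
    have hc : ∀ n : ℕ, y i * k ^ n = k ^ n * y i := fun n =>
      ((show Commute k (y i) from hk (y i)).pow_left n).symm
    rw [ev_cons, ev_cons, ih, List.length_cons, pow_succ']
    calc k * y i * (k ^ w.length * ev y w) = k * (y i * k ^ w.length) * ev y w := by group
      _ = _ := by rw [hc]; simp only [mul_assoc]

/-- lifts satisfying the Coxeter relations and the first `f3` relation -/
theorem exists_cox_lift (h : Ext π) {x : ℕ → P} (hx : CoxRel 14 x) (hx3 : ev x f3a ^ 9 = 1) :
    ∃ y : ℕ → E, (∀ i, π (y i) = x i) ∧ CoxRel 14 y ∧ ev y f3a ^ 9 = 1 := by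
  obtain ⟨y, hy, hb⟩ := h.exists_lift hx
  have hbr : ∀ i < 14, ∀ j < 14, adjB i j = true → y i * y j * y i = y j * y i * y j := by
    have key : ∀ i < 14, ∀ j < 14, adjB i j = true →
        (0 < j ∧ i = par j) ∨ (0 < i ∧ j = par i) := by decide
    intro i hi j hj hij
    rcases key i hi j hj hij with ⟨h0, rfl⟩ | ⟨h0, rfl⟩
    · exact hb j h0 hj
    · exact (hb i h0 hi).symm
  have hcm := h.lift_comm hx hx3 hy hbr
  have hsq := h.lift_sq hx hy hb
  set z0 := y 0 * y 0 with hz0
  have hz0c : ∀ g, z0 * g = g * z0 := h.cen z0 (by rw [hz0, map_mul, hy, hx.sq 0 (by norm_num)])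
  have hart : ArtRel 14 y z0 := ⟨hsq, hcm, hbr, hz0c⟩
  set z4 := ev y f3a ^ 9 with hz4
  have hz4k : π z4 = 1 := by
    rw [hz4, map_pow, map_ev, show (fun i => π (y i)) = x from funext hy, hx3]
  have hz4c : ∀ g, z4 * g = g * z4 := h.cen z4 hz4k
  have hrel : z4 ^ 2 = z0 ^ 63 := cx_good hart
  set k := z4⁻¹ * z0 ^ 31 with hk
  have hc40 : Commute z4 z0 := hz4c z0
  have hkk : π k = 1 := by
    rw [hk, map_mul, map_inv, hz4k, map_pow, hz0, map_mul, hy, hx.sq 0 (by norm_num), one_pow,
      inv_one, one_mul]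
  have hkc : ∀ g, k * g = g * k := h.cen k hkk
  have hk2 : k * k * z0 = 1 := by
    have e1 : k * k = (z4 ^ 2)⁻¹ * z0 ^ 62 := by
      have : Commute (z0 ^ 31) z4⁻¹ := (hc40.symm.pow_left 31).inv_right
      rw [hk]
      calc z4⁻¹ * z0 ^ 31 * (z4⁻¹ * z0 ^ 31) = z4⁻¹ * (z0 ^ 31 * z4⁻¹) * z0 ^ 31 := by group
        _ = z4⁻¹ * (z4⁻¹ * z0 ^ 31) * z0 ^ 31 := by rw [this.eq]
        _ = (z4⁻¹ * z4⁻¹) * (z0 ^ 31 * z0 ^ 31) := by group
        _ = _ := by rw [← mul_inv_rev, ← pow_two, ← pow_add]
    rw [e1, hrel, mul_assoc, ← pow_succ, inv_mul_cancel]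
  have hk63 : k ^ 63 * z4 = 1 := by
    have hck0 : Commute k z0 := hkc z0
    have e1 : k ^ 63 = (k * k) ^ 31 * k := by
      rw [← pow_two, ← pow_mul, ← pow_succ]
    have e2 : k * k = z0⁻¹ := eq_inv_of_mul_eq_one_left hk2
    rw [e1, e2, hk]
    calc z0⁻¹ ^ 31 * (z4⁻¹ * z0 ^ 31) * z4 = z0⁻¹ ^ 31 * z4⁻¹ * (z0 ^ 31 * z4) := by group
      _ = z0⁻¹ ^ 31 * z4⁻¹ * (z4 * z0 ^ 31) := by rw [(hc40.symm.pow_left 31).eq]
      _ = 1 := by rw [inv_pow]; group
  refine ⟨fun i => k * y i, ?_, ?_, ?_⟩
  · intro i; rw [map_mul, hkk, one_mul, hy]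
  · constructor
    · intro i hi
      calc k * y i * (k * y i) = k * (y i * k) * y i := by group
        _ = k * k * (y i * y i) := by rw [← hkc]; group
        _ = 1 := by rw [hsq i hi, hk2]
    · intro i hi j hj hij
      calc k * y i * (k * y j) = k * (y i * k) * y j := by group
        _ = k * (k * y i) * y j := by rw [hkc (y i)]
        _ = k * k * (y i * y j) := by simp only [mul_assoc]
        _ = k * k * (y j * y i) := by rw [hcm i hi j hj hij]
        _ = k * (k * y j) * y i := by simp only [mul_assoc]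
        _ = k * (y j * k) * y i := by rw [hkc (y j)]
        _ = _ := by simp only [mul_assoc]
    · intro i hi j hj hij
      have e : ∀ a b : E, k * a * (k * b) * (k * a) = k * k * k * (a * b * a) := by
        intro a b
        calc k * a * (k * b) * (k * a) = k * (a * k) * b * k * a := by group
          _ = k * k * (a * b * k) * a := by rw [← hkc a]; group
          _ = k * k * k * (a * b * a) := by rw [← hkc (a * b)]; group
      rw [e, e, hbr i hi j hj hij]
  · have hl : f3a.length = 7 := by decide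
    rw [ev_scale hkc, hl]
    have hc : Commute (k ^ 7) (ev y f3a) :=
      (show Commute k (ev y f3a) from hkc _).pow_left 7
    rw [hc.mul_pow, ← pow_mul]
    exact hk63

end Ext

end Cfsg.Agent.Bimonster
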