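import Cfsg.Agent.Bimonster.Close
import Cfsg.Prelude.Def_Spor_M

/-! # The presented Monster is the centraliser in the Bimonster -/

set_option autoImplicit false
set_option linter.unusedVariables false
set_option linter.constructorNameAsVariable false
set_option linter.unusedSectionVars false

namespace Cfsg.Agent.Bimonster

open Tits
open scoped commutatorElement

/-! ## The presented group -/

/-- all relators -/
def relsM : Set (FreeGroup (Fin 14)) :=
  {r | ∀ (Q : Type) [Group Q] (v : ℕ → Q), PRel v → FreeGroup.lift (fun i : Fin 14 => v i) r = 1}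

/-- the group presented by `PRel` -/
abbrev PM : Type := PresentedGroup relsM

/-- the letters as words -/
def wM (i : ℕ) : FreeGroup (Fin 14) := if h : i < 14 then FreeGroup.of ⟨i, h⟩ else 1

/-- the nodes -/
def xM (i : ℕ) : PM := PresentedGroup.mk relsM (wM i)

theorem lift_wM {Q : Type} [Group Q] (v : ℕ → Q) {i : ℕ} (hi : i < 14) :
    FreeGroup.lift (fun i : Fin 14 => v i) (wM i) = v i := by
  unfold wM
  rw [dif_pos hi, FreeGroup.lift_apply_of]

theorem lift_ev_wM {Q : Type} [Group Q] (v : ℕ → Q) {w : List ℕ} (hw : ∀ i ∈ w, i < 14) :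
    FreeGroup.lift (fun i : Fin 14 => v i) (ev wM w) = ev v w := by
  rw [map_ev]
  exact ev_congr fun i hi => lift_wM v (hw i hi)

theorem mk_ev_wM (w : List ℕ) : PresentedGroup.mk relsM (ev wM w) = ev xM w := by
  rw [map_ev]; rfl

theorem mk_eq_one {r : FreeGroup (Fin 14)}
    (h : ∀ (Q : Type) [Group Q] (v : ℕ → Q), PRel v →
      FreeGroup.lift (fun i : Fin 14 => v i) r = 1) : PresentedGroup.mk relsM r = 1 :=
  PresentedGroup.one_of_mem h

theorem mk_eq {r s : FreeGroup (Fin 14)}
    (h : ∀ (Q : Type) [Group Q] (v : ℕ → Q), PRel v →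
      FreeGroup.lift (fun i : Fin 14 => v i) r = FreeGroup.lift (fun i : Fin 14 => v i) s) :
    PresentedGroup.mk relsM r = PresentedGroup.mk relsM s := by
  have : PresentedGroup.mk relsM (r * s⁻¹) = 1 := mk_eq_one fun Q _ v hv => by
    rw [map_mul, map_inv, h Q v hv, mul_inv_cancel]
  rw [map_mul, map_inv] at this
  exact mul_inv_eq_one.mp this

theorem xM_prel : PRel xM := by
  refine ⟨⟨?_, ?_, ?_⟩, ?_, ?_, ?_, ?_, ?_, ?_, ?_⟩
  · intro i hi
    have := mk_eq (r := wM i * wM i) (s := 1) fun Q _ v hv => by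
      rw [map_mul, lift_wM v hi, hv.cox.sq i hi, map_one]
    rwa [map_mul, map_one] at this
  · intro i hi j hj hij
    have := mk_eq (r := wM i * wM j) (s := wM j * wM i) fun Q _ v hv => by
      rw [map_mul, map_mul, lift_wM v hi, lift_wM v hj, hv.cox.cm i hi j hj hij]
    rwa [map_mul, map_mul] at this
  · intro i hi j hj hij
    have := mk_eq (r := wM i * wM j * wM i) (s := wM j * wM i * wM j) fun Q _ v hv => by
      simp only [map_mul, lift_wM v hi, lift_wM v hj, hv.cox.br i hi j hj hij]
    simp only [map_mul] at this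
    exact this
  · have := mk_eq (r := ev wM spW ^ 10) (s := 1) fun Q _ v hv => by
      rw [map_pow, lift_ev_wM v (by decide), hv.spider, map_one]
    rwa [map_pow, mk_ev_wM, map_one] at this
  · have := mk_eq (r := wM 5) (s := ev wM f1a ^ 9) fun Q _ v hv => by
      rw [map_pow, lift_ev_wM v (by decide), lift_wM v (by norm_num), ← hv.f1a]
    rwa [map_pow, mk_ev_wM] at this
  · have := mk_eq (r := wM 5) (s := ev wM f1b ^ 9) fun Q _ v hv => by
      rw [map_pow, lift_ev_wM v (by decide), lift_wM v (by norm_num), ← hv.f1b]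
    rwa [map_pow, mk_ev_wM] at this
  · have := mk_eq (r := wM 10) (s := ev wM f2a ^ 9) fun Q _ v hv => by
      rw [map_pow, lift_ev_wM v (by decide), lift_wM v (by norm_num), ← hv.f2a]
    rwa [map_pow, mk_ev_wM] at this
  · have := mk_eq (r := wM 10) (s := ev wM f2b ^ 9) fun Q _ v hv => by
      rw [map_pow, lift_ev_wM v (by decide), lift_wM v (by norm_num), ← hv.f2b]
    rwa [map_pow, mk_ev_wM] at this
  · have := mk_eq (r := ev wM f3a ^ 9) (s := 1) fun Q _ v hv => by
      rw [map_pow, lift_ev_wM v (by decide), hv.f3a, map_one]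
    rwa [map_pow, mk_ev_wM, map_one] at this
  · have := mk_eq (r := ev wM f3b ^ 9) (s := 1) fun Q _ v hv => by
      rw [map_pow, lift_ev_wM v (by decide), hv.f3b, map_one]
    rwa [map_pow, mk_ev_wM, map_one] at this

theorem xM_univ : Univ.{0} xM := by
  intro Q _ v hv
  have hr : ∀ r ∈ relsM, FreeGroup.lift (fun i : Fin 14 => v i) r = 1 := fun r hr => hr Q v hv
  refine ⟨PresentedGroup.toGroup hr, fun i hi => ?_⟩
  have : xM i = PresentedGroup.of (rels := relsM) ⟨i, hi⟩ := by
    unfold xM wM; rw [dif_pos hi]; rfl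
  rw [this, PresentedGroup.toGroup.of]

theorem xM_gen : Subgroup.closure (nodes 14 xM) = ⊤ := by
  rw [eq_top_iff, ← PresentedGroup.closure_range_of relsM]
  refine (Subgroup.closure_le _).mpr ?_
  rintro _ ⟨i, rfl⟩
  refine Subgroup.subset_closure ⟨i.1, i.2, ?_⟩
  unfold xM wM
  rw [dif_pos i.2]; rfl

/-! ## Twisting by a central involution -/

section twist

variable {G : Type*} [Group G] {f : G} {s : ℕ → G}

theorem twist_cox (hf : f * f = 1) (hfs : ∀ i < 14, f * s i = s i * f) (hs : CoxRel 14 s) :
    CoxRel 14 (fun i => f * s i) := by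
  constructor
  · intro i hi
    calc f * s i * (f * s i) = f * (s i * f) * s i := by simp only [mul_assoc]
      _ = (f * f) * (s i * s i) := by rw [← hfs i hi]; simp only [mul_assoc]
      _ = 1 := by rw [hf, hs.sq i hi, one_mul]
  · intro i hi j hj hij
    calc f * s i * (f * s j) = f * (s i * f) * s j := by simp only [mul_assoc]
      _ = (f * f) * (s i * s j) := by rw [← hfs i hi]; simp only [mul_assoc]
      _ = (f * f) * (s j * s i) := by rw [hs.cm i hi j hj hij]
      _ = f * (f * s j) * s i := by simp only [mul_assoc]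
      _ = f * (s j * f) * s i := by rw [hfs j hj]
      _ = f * s j * (f * s i) := by simp only [mul_assoc]
  · have key : ∀ i < 14, ∀ j < 14, f * s i * (f * s j) * (f * s i) = f * (s i * s j * s i) := by
      intro i hi j hj
      calc f * s i * (f * s j) * (f * s i) = f * (s i * f) * (s j * f) * s i := by
            simp only [mul_assoc]
        _ = f * (f * s i) * (f * s j) * s i := by rw [← hfs i hi, ← hfs j hj]
        _ = (f * f) * (s i * f) * s j * s i := by simp only [mul_assoc]
        _ = f * (s i * s j * s i) := by rw [hf, ← hfs i hi]; simp only [mul_assoc, one_mul]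
    intro i hi j hj hij
    show f * s i * (f * s j) * (f * s i) = f * s j * (f * s i) * (f * s j)
    rw [key i hi j hj, key j hj i hi, hs.br i hi j hj hij]

theorem comm_ev' {w : List ℕ} (hf : ∀ i ∈ w, f * s i = s i * f) :
    f * ev s w = ev s w * f := Setup.comm_ev hf

theorem twist_odd (hf : f * f = 1) (hfs : ∀ i < 14, f * s i = s i * f) {w : List ℕ}
    (hw : ∀ i ∈ w, i < 14) {n m : ℕ} (hn : w.length * n = 2 * m + 1) :
    ev (fun i => f * s i) w ^ n = f * ev s w ^ n := by
  have hc : Commute f (ev s w) := comm_ev' fun i hi => hfs i (hw i hi)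
  rw [Setup.ev_mul_central fun i hi => hfs i (hw i hi), (hc.pow_left _).mul_pow, ← pow_mul, hn,
    pow_succ, pow_mul, pow_two, hf, one_pow, one_mul]

theorem twist_even (hf : f * f = 1) (hfs : ∀ i < 14, f * s i = s i * f) {w : List ℕ}
    (hw : ∀ i ∈ w, i < 14) {n m : ℕ} (hn : w.length * n = 2 * m) :
    ev (fun i => f * s i) w ^ n = ev s w ^ n := by
  have hc : Commute f (ev s w) := comm_ev' fun i hi => hfs i (hw i hi)
  rw [Setup.ev_mul_central fun i hi => hfs i (hw i hi), (hc.pow_left _).mul_pow, ← pow_mul, hn,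
    pow_mul, pow_two, hf, one_pow, one_mul]

end twist

/-- the diagonal family of the Bimonster satisfies the relations of the Monster -/
theorem BiRel.prel {G : Type*} [Group G] {t : ℕ → G} (h : BiRel t) :
    PRel (fun i => t 15 * t i) := by
  have hf : t 15 * t 15 = 1 := h.cox.sq 15 (by norm_num)
  have hadj : ∀ i < 14, adjB 15 i = false := by decide
  have hfs : ∀ i < 14, t 15 * t i = t i * t 15 := fun i hi =>
    h.cox.cm 15 (by norm_num) i (by omega) (hadj i hi)
  refine ⟨twist_cox hf hfs (h.cox.mono (by norm_num)), ?_, ?_, ?_, ?_, ?_, ?_, ?_⟩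
  · rw [twist_even hf hfs (by decide) (m := 45) (by decide), h.spider]
  · rw [twist_odd hf hfs (by decide) (m := 31) (by decide), ← h.f1a]
  · rw [twist_odd hf hfs (by decide) (m := 31) (by decide), ← h.f1b]
  · rw [twist_odd hf hfs (by decide) (m := 31) (by decide), ← h.f2a]
  · rw [twist_odd hf hfs (by decide) (m := 31) (by decide), ← h.f2b]
  · rw [twist_odd hf hfs (by decide) (m := 31) (by decide), ← h.f3a, hf]
  · rw [twist_odd hf hfs (by decide) (m := 31) (by decide), ← h.f3b, hf]

/-! ## The wreath product -/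

section wreath

variable {P : Type*} [Group P]

/-- left multiplication on both copies -/
def wL : P →* Equiv.Perm (Bool × P) where
  toFun p := {
    toFun := fun a => (a.1, p * a.2)
    invFun := fun a => (a.1, p⁻¹ * a.2)
    left_inv := fun a => by simp
    right_inv := fun a => by simp }
  map_one' := by ext a <;> simp
  map_mul' p q := by ext a <;> simp [mul_assoc]

/-- the exchange of the two copies -/
def wS : Equiv.Perm (Bool × P) where
  toFun a := (!a.1, a.2)
  invFun a := (!a.1, a.2)
  left_inv a := by simp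
  right_inv a := by simp

/-- the antidiagonal element -/
def wZ (ζ : P) : Equiv.Perm (Bool × P) where
  toFun a := (a.1, (bif a.1 then ζ⁻¹ else ζ) * a.2)
  invFun a := (a.1, (bif a.1 then ζ⁻¹ else ζ)⁻¹ * a.2)
  left_inv a := by simp
  right_inv a := by simp

theorem wL_apply (p : P) (a : Bool × P) : wL p a = (a.1, p * a.2) := rfl
theorem wS_apply (a : Bool × P) : wS a = (!a.1, a.2) := rfl
theorem wZ_apply (ζ : P) (a : Bool × P) : wZ ζ a = (a.1, (bif a.1 then ζ⁻¹ else ζ) * a.2) := rfl

theorem wL_inj : Function.Injective (wL (P := P)) := by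
  intro p q h
  have := congrArg (fun e => (e (true, 1)).2) h
  simpa [wL_apply] using this

theorem wS_sq : wS * wS = (1 : Equiv.Perm (Bool × P)) := by
  ext a <;> simp [wS_apply, Equiv.Perm.mul_apply]

theorem wS_wL (p : P) : wS * wL p = wL p * wS := by
  ext a <;> simp [wS_apply, wL_apply, Equiv.Perm.mul_apply]

/-- the family in the wreath product -/
def wT (x : ℕ → P) (i : ℕ) : Equiv.Perm (Bool × P) :=
  if i < 14 then wS * wL (x i) else if i = 14 then wS * wZ (ev x zW) else wS

theorem wT_lt (x : ℕ → P) {i : ℕ} (hi : i < 14) : wT x i = wS * wL (x i) := if_pos hi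
theorem wT_14 (x : ℕ → P) : wT x 14 = wS * wZ (ev x zW) := rfl
theorem wT_15 (x : ℕ → P) : wT x 15 = wS := rfl

theorem wT_birel {x : ℕ → P} (hx : PRel x) (hz : ZRel x) : BiRel (wT x) := by
  have hfs : ∀ i < 14, wS * wL (x i) = wL (x i) * wS := fun i _ => wS_wL _
  have hcL : CoxRel 14 (fun i => wL (x i)) := hx.cox.map wL
  have hc := twist_cox wS_sq hfs hcL
  have hT : ∀ w : List ℕ, (∀ i ∈ w, i < 14) → ev (wT x) w = ev (fun i => wS * wL (x i)) w :=
    fun w hw => ev_congr fun i hi => wT_lt x (hw i hi)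
  -- the node 14
  have s14 : wT x 14 * wT x 14 = 1 := by
    rw [wT_14]
    ext a <;> simp [wS_apply, wZ_apply, Equiv.Perm.mul_apply]
    cases a.1 <;> simp
  have c14 : ∀ i < 13, wT x 14 * wT x i = wT x i * wT x 14 := by
    intro i hi
    have h1 := hz.inv i hi
    have h2 := hx.cox.sq i (by omega)
    have h3 : x i * ev x zW = (ev x zW)⁻¹ * x i := by
      calc x i * ev x zW = x i * ev x zW * (x i * x i) := by rw [h2, mul_one]
        _ = _ := by rw [← h1]; simp only [mul_assoc]
    have h4 : x i * (ev x zW)⁻¹ = ev x zW * x i := by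
      calc x i * (ev x zW)⁻¹ = x i * (x i * ev x zW * x i) := by rw [h1]
        _ = (x i * x i) * (ev x zW * x i) := by simp only [mul_assoc]
        _ = _ := by rw [h2, one_mul]
    rw [wT_14, wT_lt x (by omega : i < 14)]
    ext a
    · simp [wS_apply, wZ_apply, wL_apply, Equiv.Perm.mul_apply]
    · simp only [wS_apply, wZ_apply, wL_apply, Equiv.Perm.mul_apply]
      cases a.1 <;> simp only [Bool.not_false, Bool.not_true, cond_true, cond_false, ← mul_assoc]
      · rw [h3]
      · rw [h4]
  have br_of : ∀ {a b : Equiv.Perm (Bool × P)}, a * a = 1 → b * b = 1 →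
      (a * b) ^ 3 = 1 → a * b * a = b * a * b := by
    intro a b ha hb hab
    rw [pow_three'] at hab
    have ha' := Square.inv_of_sq ha
    have hb' := Square.inv_of_sq hb
    have : a * b * a * (b * a * b) = 1 := by rw [← hab]; simp only [mul_assoc]
    have h2 := eq_inv_of_mul_eq_one_left this
    rw [h2, mul_inv_rev, mul_inv_rev, ha', hb', mul_assoc]
  have s15 : wT x 15 * wT x 15 = 1 := by rw [wT_15]; exact wS_sq
  have s13 : wT x 13 * wT x 13 = 1 := by
    rw [wT_lt x (by norm_num : 13 < 14)]; exact hc.sq 13 (by norm_num)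
  have b1415 : wT x 14 * wT x 15 * wT x 14 = wT x 15 * wT x 14 * wT x 15 := by
    apply br_of s14 s15
    have h3 := hz.cube
    rw [pow_three'] at h3
    have h3' : (ev x zW)⁻¹ * (ev x zW)⁻¹ * (ev x zW)⁻¹ = 1 := by
      rw [← mul_inv_rev, ← mul_inv_rev, ← mul_assoc, h3, inv_one]
    rw [wT_14, wT_15, pow_three']
    ext a
    · simp [wS_apply, wZ_apply, Equiv.Perm.mul_apply]
    · simp only [wS_apply, wZ_apply, Equiv.Perm.mul_apply, Equiv.Perm.one_apply]
      cases a.1 <;> simp only [Bool.not_false, Bool.not_true, cond_true, cond_false, ← mul_assoc]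
      · rw [h3', one_mul]
      · rw [h3, one_mul]
  have b1314 : wT x 13 * wT x 14 * wT x 13 = wT x 14 * wT x 13 * wT x 14 := by
    apply br_of s13 s14
    have h3 := hz.ord
    rw [pow_three'] at h3
    have hq := hx.cox.sq 13 (by norm_num)
    have hq' := Square.inv_of_sq hq
    have h3' : x 13 * (ev x zW)⁻¹ * (x 13 * (ev x zW)⁻¹) * (x 13 * (ev x zW)⁻¹) = 1 := by
      have h4 := congrArg (fun g => x 13 * g⁻¹ * x 13) h3
      simp only [mul_inv_rev, hq', inv_one, mul_one, hq] at h4
      calc x 13 * (ev x zW)⁻¹ * (x 13 * (ev x zW)⁻¹) * (x 13 * (ev x zW)⁻¹)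
          = x 13 * (ev x zW)⁻¹ * (x 13 * (ev x zW)⁻¹) * (x 13 * (ev x zW)⁻¹) * 1 := by
            rw [mul_one]
        _ = _ := by rw [← hq]; simp only [mul_assoc]
        _ = 1 := h4
    rw [wT_14, wT_lt x (by norm_num : 13 < 14), pow_three']
    ext a
    · simp [wS_apply, wZ_apply, wL_apply, Equiv.Perm.mul_apply]
    · simp only [wS_apply, wZ_apply, wL_apply, Equiv.Perm.mul_apply, Equiv.Perm.one_apply]
      cases a.1 <;> simp only [Bool.not_false, Bool.not_true, cond_true, cond_false, ← mul_assoc]
      · rw [show x 13 * ev x zW * x 13 * ev x zW * x 13 * ev x zW = 1 by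
          rw [← h3]; simp only [mul_assoc], one_mul]
      · rw [show x 13 * (ev x zW)⁻¹ * x 13 * (ev x zW)⁻¹ * x 13 * (ev x zW)⁻¹ = 1 by
          rw [← h3']; simp only [mul_assoc], one_mul]
  have c15 : ∀ i < 14, wT x 15 * wT x i = wT x i * wT x 15 := by
    intro i hi
    rw [wT_15, wT_lt x hi, mul_assoc, ← wS_wL]
  refine ⟨⟨?_, ?_, ?_⟩, ?_, ?_, ?_, ?_, ?_, ?_, ?_⟩
  · intro i hi
    by_cases h1 : i < 14
    · rw [wT_lt x h1]; exact hc.sq i h1
    · have : i = 14 ∨ i = 15 := by omega
      rcases this with rfl | rfl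
      exacts [s14, s15]
  · intro i hi j hj hij
    have k14 : ∀ i < 14, adjB i 14 = false → i < 13 := by decide
    have k14' : ∀ i < 14, adjB 14 i = false → i < 13 := by decide
    rcases (show i < 14 ∨ i = 14 ∨ i = 15 by omega) with h1 | rfl | rfl <;>
      rcases (show j < 14 ∨ j = 14 ∨ j = 15 by omega) with h2 | rfl | rfl
    · rw [wT_lt x h1, wT_lt x h2]; exact hc.cm i h1 j h2 hij
    · exact (c14 i (k14 i h1 hij)).symm
    · exact (c15 i h1).symm
    · exact c14 j (k14' j h2 hij)
    · rfl
    · exact absurd hij (by decide)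
    · exact c15 j h2
    · exact absurd hij (by decide)
    · rfl
  · intro i hi j hj hij
    have k14 : ∀ i < 14, adjB i 14 = true → i = 13 := by decide
    have k14' : ∀ i < 14, adjB 14 i = true → i = 13 := by decide
    have k15 : ∀ i < 14, adjB i 15 = false := by decide
    have k15' : ∀ i < 14, adjB 15 i = false := by decide
    rcases (show i < 14 ∨ i = 14 ∨ i = 15 by omega) with h1 | rfl | rfl <;>
      rcases (show j < 14 ∨ j = 14 ∨ j = 15 by omega) with h2 | rfl | rfl
    · rw [wT_lt x h1, wT_lt x h2]; exact hc.br i h1 j h2 hij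
    · rw [k14 i h1 hij]; exact b1314
    · rw [k15 i h1] at hij; exact absurd hij (by decide)
    · rw [k14' j h2 hij]; exact b1314.symm
    · rfl
    · exact b1415
    · rw [k15' j h2] at hij; exact absurd hij (by decide)
    · exact b1415.symm
    · rfl
  · rw [hT _ (by decide), twist_even wS_sq hfs (by decide) (m := 45) (by decide), ← map_ev,
      ← map_pow, hx.spider, map_one]
  · rw [hT _ (by decide), twist_odd wS_sq hfs (by decide) (m := 31) (by decide), ← map_ev,
      ← map_pow, ← hx.f1a, wT_lt x (by norm_num)]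
  · rw [hT _ (by decide), twist_odd wS_sq hfs (by decide) (m := 31) (by decide), ← map_ev,
      ← map_pow, ← hx.f1b, wT_lt x (by norm_num)]
  · rw [hT _ (by decide), twist_odd wS_sq hfs (by decide) (m := 31) (by decide), ← map_ev,
      ← map_pow, ← hx.f2a, wT_lt x (by norm_num)]
  · rw [hT _ (by decide), twist_odd wS_sq hfs (by decide) (m := 31) (by decide), ← map_ev,
      ← map_pow, ← hx.f2b, wT_lt x (by norm_num)]
  · rw [hT _ (by decide), twist_odd wS_sq hfs (by decide) (m := 31) (by decide), ← map_ev,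
      ← map_pow, hx.f3a, map_one, mul_one, wT_15]
  · rw [hT _ (by decide), twist_odd wS_sq hfs (by decide) (m := 31) (by decide), ← map_ev,
      ← map_pow, hx.f3b, map_one, mul_one, wT_15]

end wreath

end Cfsg.Agent.Bimonster
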