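import Mathlib

/-!
# The local computation (a 3 x 3 square of involutions)
-/

set_option autoImplicit false

namespace Cfsg.Agent.Bimonster.Square

variable {G : Type*} [Group G]

/-- conjugate -/
def cj (u g : G) : G := g⁻¹ * u * g

theorem cj_sq {u : G} (hu : u * u = 1) (g : G) : cj u g * cj u g = 1 := by
  unfold cj
  calc g⁻¹ * u * g * (g⁻¹ * u * g) = g⁻¹ * (u * u) * g := by group
    _ = 1 := by rw [hu]; group

theorem tri_prod {u y : G} (hy : y ^ 3 = 1) (huy : (u * y) ^ 3 = 1) (g : G) :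
    cj u g * cj u (y⁻¹ * g) * cj u (y * g) = 1 := by
  unfold cj
  have hy2 : y⁻¹ * y⁻¹ = y := by
    have : y * y * y = 1 := by rw [← hy, pow_three']
    calc y⁻¹ * y⁻¹ = (y * y * y) * (y⁻¹ * y⁻¹) := by rw [this, one_mul]
      _ = y := by group
  calc g⁻¹ * u * g * ((y⁻¹ * g)⁻¹ * u * (y⁻¹ * g)) * ((y * g)⁻¹ * u * (y * g))
      = g⁻¹ * (u * y * u * (y⁻¹ * y⁻¹) * u * y) * g := by group
    _ = g⁻¹ * (u * y) ^ 3 * g := by rw [hy2, pow_three']; group
    _ = 1 := by rw [huy]; group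

theorem inv_of_sq {a : G} (h : a * a = 1) : a⁻¹ = a := (eq_inv_of_mul_eq_one_left h).symm

theorem tri {u y : G} (hu : u * u = 1) (hy : y ^ 3 = 1) (huy : (u * y) ^ 3 = 1) (g : G) :
    cj u (y⁻¹ * g) = cj u g * cj u (y * g) ∧ cj u (y⁻¹ * g) = cj u (y * g) * cj u g := by
  have h := tri_prod hy huy g
  have hA := inv_of_sq (cj_sq hu g)
  have hB := inv_of_sq (cj_sq hu (y⁻¹ * g))
  have hC := inv_of_sq (cj_sq hu (y * g))
  constructor
  · calc cj u (y⁻¹ * g) = (cj u g)⁻¹ * (cj u g * cj u (y⁻¹ * g) * cj u (y * g)) * (cj u (y * g))⁻¹ := by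
          group
      _ = cj u g * cj u (y * g) := by rw [h, hA, hC, mul_one]
  · have h' : cj u (y * g) * cj u (y⁻¹ * g) * cj u g = 1 := by
      have := congrArg (·⁻¹) h
      simpa only [mul_inv_rev, hA, hB, hC, inv_one, mul_assoc] using this
    calc cj u (y⁻¹ * g) = (cj u (y * g))⁻¹ * (cj u (y * g) * cj u (y⁻¹ * g) * cj u g) * (cj u g)⁻¹ := by
          group
      _ = cj u (y * g) * cj u g := by rw [h', hA, hC, mul_one]

/-- the local relation -/
theorem square {u x z : G} (hu : u * u = 1) (hx : x ^ 3 = 1) (hz : z ^ 3 = 1) (hxz : x * z = z * x)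
    (hux : (u * x) ^ 3 = 1) (huz : (u * z) ^ 3 = 1) : Commute (u * (z * x) * u) (z * x⁻¹) := by
  have hu' := inv_of_sq hu
  have c1 : cj u (1 : G) = u := by simp [cj]
  -- the entries
  obtain ⟨z1, z1'⟩ := tri hu hz huz 1
  obtain ⟨x1, x1'⟩ := tri hu hx hux 1
  obtain ⟨zx, zx'⟩ := tri hu hz huz x
  obtain ⟨xz, xz'⟩ := tri hu hx hux z
  obtain ⟨zxi, zxi'⟩ := tri hu hz huz x⁻¹
  obtain ⟨xzi, xzi'⟩ := tri hu hx hux z⁻¹
  rw [mul_one, mul_one, c1] at z1 z1' x1 x1'
  have e1 : x⁻¹ * z = z * x⁻¹ := by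
    calc x⁻¹ * z = x⁻¹ * (z * x) * x⁻¹ := by group
      _ = z * x⁻¹ := by rw [← hxz]; group
  have e2 : x * z⁻¹ = z⁻¹ * x := by
    calc x * z⁻¹ = z⁻¹ * (z * x) * z⁻¹ := by group
      _ = z⁻¹ * x := by rw [← hxz]; group
  have e3 : x⁻¹ * z⁻¹ = z⁻¹ * x⁻¹ := by
    rw [← mul_inv_rev, ← mul_inv_rev, hxz]
  rw [hxz, e1] at xz xz'
  rw [e2, e3] at xzi xzi'
  -- the magic square
  have key : u * cj u (z * x) = cj u (z * x) * u := by
    have h1 : cj u (z⁻¹ * x⁻¹) = cj u z * u * (cj u (z * x) * cj u x) := by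
      rw [xzi, zx', z1']
    have h2 : cj u (z⁻¹ * x⁻¹) = cj u z * cj u (z * x) * (u * cj u x) := by
      rw [zxi', xz, x1]
    have h3 := h1.symm.trans h2
    have h4 : cj u z * (u * cj u (z * x)) * cj u x = cj u z * (cj u (z * x) * u) * cj u x := by
      simpa only [mul_assoc] using h3
    exact mul_left_cancel (mul_right_cancel h4)
  -- the claim
  have ab : Commute (z * x) (z * x⁻¹) := by
    show z * x * (z * x⁻¹) = z * x⁻¹ * (z * x)
    calc z * x * (z * x⁻¹) = z * (x * z) * x⁻¹ := by group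
      _ = z * (z * x) * x⁻¹ := by rw [hxz]
      _ = z * z := by group
      _ = z * (x⁻¹ * (z * x)) := by rw [← hxz]; group
      _ = z * x⁻¹ * (z * x) := by group
  have hz2 : z * x * (z * x⁻¹) = z⁻¹ := by
    have : z * z * z = 1 := by rw [← hz, pow_three']
    calc z * x * (z * x⁻¹) = z * (x * z) * x⁻¹ := by group
      _ = z * z := by rw [hxz]; group
      _ = z * z * z * z⁻¹ := by group
      _ = z⁻¹ := by rw [this, one_mul]
  have hfix : cj (cj u (z * x) * u) (z * x⁻¹) = cj u (z * x) * u := by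
    have : cj (cj u (z * x) * u) (z * x⁻¹) = cj u (z * x * (z * x⁻¹)) * cj u (z * x⁻¹) := by
      unfold cj; group
    rw [this, hz2, z1, xz, ← key]
    have := cj_sq hu z
    calc u * cj u z * (cj u z * cj u (z * x)) = u * (cj u z * cj u z) * cj u (z * x) := by group
      _ = u * cj u (z * x) := by rw [this, mul_one]
  have hc : Commute (cj u (z * x) * u) (z * x⁻¹) := by
    have h := hfix
    unfold cj at h ⊢
    show _ = _
    calc ((z * x)⁻¹ * u * (z * x) * u) * (z * x⁻¹)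
        = (z * x⁻¹) * ((z * x⁻¹)⁻¹ * ((z * x)⁻¹ * u * (z * x) * u) * (z * x⁻¹)) := by group
      _ = _ := by rw [h]
  have hd : u * (z * x) * u = (z * x) * (cj u (z * x) * u) := by unfold cj; group
  rw [hd]
  exact ab.mul_left hc

/-- generation of `A₄` by two elements of order three -/
theorem mem_closure {u y : G} (hu : u * u = 1) (hy : y ^ 3 = 1) (huy : (u * y) ^ 3 = 1)
    {H : Subgroup G} (h1 : y ∈ H) (h2 : u * y * u ∈ H) : u ∈ H := by
  obtain ⟨a, a'⟩ := tri hu hy huy 1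
  have c1 : cj u (1 : G) = u := by simp [cj]
  rw [mul_one, mul_one, c1] at a a'
  -- `y⁻¹ * (u y u) = cj u y * u`
  have h3 : y⁻¹ * (u * y * u) ∈ H := H.mul_mem (H.inv_mem h1) h2
  have h4 : y⁻¹ * (u * y * u) = cj u y⁻¹ := by rw [a']; unfold cj; group
  rw [h4] at h3
  have h5 : u = y⁻¹ * cj u y⁻¹ * y := by unfold cj; group
  rw [h5]
  exact H.mul_mem (H.mul_mem (H.inv_mem h1) h3) h1

end Cfsg.Agent.Bimonster.Square
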