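import Cfsg.Agent.Bimonster.Words
import Cfsg.Agent.Bimonster.Square

/-! # The structure of the Bimonster relative to the subgroup of the node `f3` -/

set_option autoImplicit false

namespace Cfsg.Agent.Bimonster

open Tits

variable {G P : Type*} [Group G] [Group P]

/-- the situation -/
structure Setup (t : ℕ → G) (x : ℕ → P) (φ : P →* G) (sgn : G →* ℤˣ) : Prop where
  rel : BiRel t
  gen : Subgroup.closure (nodes 16 t) = ⊤
  xrel : PRel x
  zrel : ZRel x
  xgen : Subgroup.closure (nodes 14 x) = ⊤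
  hphi : ∀ i < 14, φ (x i) = t 15 * t i
  hsgn : ∀ i < 16, sgn (t i) = -1

namespace Setup

variable {t : ℕ → G} {x : ℕ → P} {φ : P →* G} {sgn : G →* ℤˣ}

theorem ff (h : Setup t x φ sgn) : t 15 * t 15 = 1 := h.rel.cox.sq 15 (by norm_num)

theorem ee (h : Setup t x φ sgn) : t 14 * t 14 = 1 := h.rel.cox.sq 14 (by norm_num)

theorem f_t (h : Setup t x φ sgn) {i : ℕ} (hi : i < 14) : t 15 * t i = t i * t 15 := by
  have : ∀ i < 14, adjB 15 i = false := by decide
  exact h.rel.cox.cm 15 (by norm_num) i (by omega) (this i hi)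

theorem e_t (h : Setup t x φ sgn) {i : ℕ} (hi : i < 13) : t 14 * t i = t i * t 14 := by
  have : ∀ i < 13, adjB 14 i = false := by decide
  exact h.rel.cox.cm 14 (by norm_num) i (by omega) (this i hi)

theorem efe (h : Setup t x φ sgn) : t 14 * t 15 * t 14 = t 15 * t 14 * t 15 :=
  h.rel.cox.br 14 (by norm_num) 15 (by norm_num) (by decide)

theorem ede (h : Setup t x φ sgn) : t 14 * t 13 * t 14 = t 13 * t 14 * t 13 :=
  h.rel.cox.br 14 (by norm_num) 13 (by norm_num) (by decide)

/-- the diagonal subgroup commutes with `f` -/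
theorem f_phi (h : Setup t x φ sgn) (p : P) : t 15 * φ p = φ p * t 15 := by
  have hp : p ∈ Subgroup.closure (nodes 14 x) := by rw [h.xgen]; trivial
  induction hp using Subgroup.closure_induction with
  | mem y hy =>
    obtain ⟨i, hi, rfl⟩ := hy
    rw [h.hphi i hi, mul_assoc, h.f_t hi, ← mul_assoc, mul_assoc]
  | one => simp
  | mul y z _ _ hy hz => rw [map_mul, ← mul_assoc, hy, mul_assoc, hz, mul_assoc]
  | inv y _ hy =>
    rw [map_inv]
    calc t 15 * (φ y)⁻¹ = (φ y)⁻¹ * (φ y * t 15) * (φ y)⁻¹ := by group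
      _ = (φ y)⁻¹ * t 15 := by rw [← hy]; group

/-- the element of order three -/
def z (x : ℕ → P) (φ : P →* G) : G := φ (ev x zW)

/-- `α` -/
def al (t : ℕ → G) (x : ℕ → P) (φ : P →* G) : G := z x φ * (t 15 * t 14)

/-- `β` -/
def be (t : ℕ → G) (x : ℕ → P) (φ : P →* G) : G := z x φ * (t 14 * t 15)

theorem ev_mul_central {f : G} {s : ℕ → G} {w : List ℕ} (hf : ∀ i ∈ w, f * s i = s i * f) :
    ev (fun i => f * s i) w = f ^ w.length * ev s w := by
  induction w with
  | nil => simp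
  | cons i w ih =>
    have hc : ∀ n : ℕ, s i * f ^ n = f ^ n * s i := fun n =>
      ((show Commute f (s i) from hf i (by simp)).pow_left n).symm
    rw [ev_cons, ev_cons, ih fun j hj => hf j (by simp [hj]), List.length_cons, pow_succ']
    calc f * s i * (f ^ w.length * ev s w) = f * (s i * f ^ w.length) * ev s w := by group
      _ = _ := by rw [hc]; simp only [mul_assoc]

theorem zW_lt : ∀ i ∈ zW, i < 13 := by decide +kernel

theorem zW_length : zW.length = 2 * 212 := by decide +kernel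

theorem z_eq (h : Setup t x φ sgn) : z x φ = ev t zW := by
  unfold z
  rw [map_ev]
  have h1 : ev (fun i => φ (x i)) zW = ev (fun i => t 15 * t i) zW :=
    ev_congr fun i hi => h.hphi i (lt_trans (zW_lt i hi) (by norm_num))
  rw [h1, ev_mul_central fun i hi => h.f_t (lt_trans (zW_lt i hi) (by norm_num))]
  rw [zW_length, pow_mul, pow_two, h.ff, one_pow, one_mul]

theorem comm_ev {e : G} {s : ℕ → G} {w : List ℕ} (hf : ∀ i ∈ w, e * s i = s i * e) :
    e * ev s w = ev s w * e := by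
  induction w with
  | nil => simp
  | cons i w ih =>
    rw [ev_cons, ← mul_assoc, hf i (by simp), mul_assoc, ih fun j hj => hf j (by simp [hj]),
      mul_assoc]

theorem e_z (h : Setup t x φ sgn) : t 14 * z x φ = z x φ * t 14 := by
  rw [h.z_eq]
  exact comm_ev fun i hi => h.e_t (zW_lt i hi)

theorem f_z (h : Setup t x φ sgn) : t 15 * z x φ = z x φ * t 15 := h.f_phi _

theorem z_cube (h : Setup t x φ sgn) : z x φ ^ 3 = 1 := by
  unfold z; rw [← map_pow, h.zrel.cube, map_one]

/-- the diagonal involutions -/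
theorem uu (h : Setup t x φ sgn) {i : ℕ} (hi : i < 14) : φ (x i) * φ (x i) = 1 := by
  rw [← map_mul, h.xrel.cox.sq i hi, map_one]

theorem u_z (h : Setup t x φ sgn) {i : ℕ} (hi : i < 13) :
    φ (x i) * z x φ * φ (x i) = (z x φ)⁻¹ := by
  unfold z; rw [← map_mul, ← map_mul, h.zrel.inv i hi, map_inv]

theorem fe_inv (h : Setup t x φ sgn) : (t 15 * t 14)⁻¹ = t 14 * t 15 := by
  rw [mul_inv_rev, Square.inv_of_sq h.ff, Square.inv_of_sq h.ee]

theorem fe_cube (h : Setup t x φ sgn) : (t 15 * t 14) ^ 3 = 1 := by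
  rw [pow_three']
  calc t 15 * t 14 * (t 15 * t 14) * (t 15 * t 14)
      = t 15 * (t 14 * t 15 * t 14) * (t 15 * t 14) := by group
    _ = (t 15 * t 15) * t 14 * (t 15 * t 15) * t 14 := by rw [h.efe]; group
    _ = 1 := by rw [h.ff, one_mul, mul_one, h.ee]

theorem al_mul_be (h : Setup t x φ sgn) : al t x φ * be t x φ = z x φ * z x φ := by
  unfold al be
  calc z x φ * (t 15 * t 14) * (z x φ * (t 14 * t 15))
      = z x φ * t 15 * (t 14 * z x φ) * t 14 * t 15 := by group
    _ = z x φ * (t 15 * z x φ) * (t 14 * t 14) * t 15 := by rw [h.e_z]; group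
    _ = z x φ * z x φ * (t 15 * t 15) := by rw [h.f_z, h.ee]; group
    _ = z x φ * z x φ := by rw [h.ff, mul_one]

theorem be_mul_al (h : Setup t x φ sgn) : be t x φ * al t x φ = z x φ * z x φ := by
  unfold al be
  calc z x φ * (t 14 * t 15) * (z x φ * (t 15 * t 14))
      = z x φ * t 14 * (t 15 * z x φ) * t 15 * t 14 := by group
    _ = z x φ * (t 14 * z x φ) * (t 15 * t 15) * t 14 := by rw [h.f_z]; group
    _ = z x φ * z x φ * (t 14 * t 14) := by rw [h.e_z, h.ff]; group
    _ = z x φ * z x φ := by rw [h.ee, mul_one]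

theorem f_al (h : Setup t x φ sgn) : t 15 * al t x φ * t 15 = be t x φ := by
  unfold al be
  calc t 15 * (z x φ * (t 15 * t 14)) * t 15 = (t 15 * z x φ) * t 15 * t 14 * t 15 := by group
    _ = z x φ * (t 15 * t 15) * t 14 * t 15 := by rw [h.f_z]; group
    _ = _ := by rw [h.ff]; group

theorem f_be (h : Setup t x φ sgn) : t 15 * be t x φ * t 15 = al t x φ := by
  rw [← h.f_al]
  calc t 15 * (t 15 * al t x φ * t 15) * t 15 = (t 15 * t 15) * al t x φ * (t 15 * t 15) := by group
    _ = _ := by rw [h.ff]; group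

theorem fe_z (h : Setup t x φ sgn) : t 15 * t 14 * z x φ = z x φ * (t 15 * t 14) := by
  rw [mul_assoc, h.e_z, ← mul_assoc, h.f_z, mul_assoc]

theorem al_cube (h : Setup t x φ sgn) : al t x φ ^ 3 = 1 := by
  have hc : Commute (z x φ) (t 15 * t 14) := h.fe_z.symm
  unfold al
  rw [hc.mul_pow, h.z_cube, h.fe_cube, one_mul]

/-- the nodes of `Y552` invert `α` -/
theorem u_al (h : Setup t x φ sgn) {i : ℕ} (hi : i < 13) :
    φ (x i) * al t x φ * φ (x i) = (al t x φ)⁻¹ := by
  have h1 : φ (x i) * (t 15 * t 14) * φ (x i) = t 14 * t 15 := by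
    rw [h.hphi i (by omega)]
    calc t 15 * t i * (t 15 * t 14) * (t 15 * t i)
        = t 15 * (t i * t 15) * t 14 * t 15 * t i := by group
      _ = (t 15 * t 15) * t i * t 14 * t 15 * t i := by rw [← h.f_t (by omega)]; group
      _ = (t i * t 14) * t 15 * t i := by rw [h.ff]; group
      _ = t 14 * t i * (t 15 * t i) := by rw [← h.e_t hi]; group
      _ = t 14 * (t i * t i) * t 15 := by rw [h.f_t (by omega)]; group
      _ = t 14 * t 15 := by rw [h.rel.cox.sq i (by omega), mul_one]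
  have h2 : (al t x φ)⁻¹ = (z x φ)⁻¹ * (t 14 * t 15) := by
    unfold al
    rw [← h.fe_z, mul_inv_rev, h.fe_inv]
  rw [h2, ← h1, ← h.u_z hi]
  unfold al
  have h3 := h.uu (i := i) (by omega)
  calc φ (x i) * (z x φ * (t 15 * t 14)) * φ (x i)
      = φ (x i) * z x φ * 1 * (t 15 * t 14) * φ (x i) := by group
    _ = _ := by rw [← h3]; group

theorem u_be (h : Setup t x φ sgn) {i : ℕ} (hi : i < 13) :
    φ (x i) * be t x φ * φ (x i) = (be t x φ)⁻¹ := by
  rw [← h.f_al]
  have h1 := h.f_phi (x i)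
  calc φ (x i) * (t 15 * al t x φ * t 15) * φ (x i)
      = (φ (x i) * t 15) * al t x φ * (t 15 * φ (x i)) := by group
    _ = (φ (x i) * t 15) * al t x φ * (φ (x i) * t 15) := by rw [h1]
    _ = (t 15 * φ (x i)) * al t x φ * (φ (x i) * t 15) :=
        congrArg (fun y => y * al t x φ * (φ (x i) * t 15)) h1.symm
    _ = t 15 * (φ (x i) * al t x φ * φ (x i)) * t 15 := by group
    _ = (t 15)⁻¹ * (al t x φ)⁻¹ * (t 15)⁻¹ := by rw [h.u_al hi, Square.inv_of_sq h.ff]
    _ = (t 15 * al t x φ * t 15)⁻¹ := by group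

/-- the local commutation -/
theorem local_comm (h : Setup t x φ sgn) :
    Commute (φ (x 13) * al t x φ * φ (x 13)) (be t x φ) := by
  have hc : t 15 * t 14 * z x φ = z x φ * (t 15 * t 14) := h.fe_z
  have h1 : (φ (x 13) * (t 15 * t 14)) ^ 3 = 1 := by
    have : φ (x 13) * (t 15 * t 14) = t 13 * t 14 := by
      rw [h.hphi 13 (by norm_num)]
      calc t 15 * t 13 * (t 15 * t 14) = t 15 * (t 13 * t 15) * t 14 := by group
        _ = (t 15 * t 15) * t 13 * t 14 := by rw [← h.f_t (by norm_num)]; group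
        _ = t 13 * t 14 := by rw [h.ff]; group
    rw [this, pow_three']
    calc t 13 * t 14 * (t 13 * t 14) * (t 13 * t 14)
        = t 13 * (t 14 * t 13 * t 14) * (t 13 * t 14) := by group
      _ = (t 13 * t 13) * t 14 * (t 13 * t 13) * t 14 := by rw [h.ede]; group
      _ = 1 := by rw [h.rel.cox.sq 13 (by norm_num), one_mul, mul_one, h.ee]
  have h2 : (φ (x 13) * z x φ) ^ 3 = 1 := by
    unfold z; rw [← map_mul, ← map_pow, h.zrel.ord, map_one]
  have := Square.square (h.uu (i := 13) (by norm_num)) h.fe_cube h.z_cube hc h1 h2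
  rw [h.fe_inv] at this
  exact this

/-- the commutation predicate -/
def S (t : ℕ → G) (x : ℕ → P) (φ : P →* G) (g : G) : Prop :=
  Commute (g⁻¹ * al t x φ * g) (be t x φ)

theorem S_left (h : Setup t x φ sgn) {i : ℕ} (hi : i < 13) (g : G) :
    S t x φ (φ (x i) * g) ↔ S t x φ g := by
  have h1 : (φ (x i) * g)⁻¹ * al t x φ * (φ (x i) * g) = (g⁻¹ * al t x φ * g)⁻¹ := by
    have h2 := h.u_al hi
    rw [mul_inv_rev, Square.inv_of_sq (h.uu (i := i) (by omega))]
    calc g⁻¹ * φ (x i) * al t x φ * (φ (x i) * g) = g⁻¹ * (φ (x i) * al t x φ * φ (x i)) * g := by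
          group
      _ = _ := by rw [h2]; group
  unfold S
  rw [h1, Commute.inv_left_iff]

theorem S_right (h : Setup t x φ sgn) {i : ℕ} (hi : i < 13) (g : G) :
    S t x φ (g * φ (x i)) ↔ S t x φ g := by
  have h2 := h.u_be hi
  have h3 := h.uu (i := i) (by omega)
  have h4 := Square.inv_of_sq h3
  unfold S
  have h5 : (g * φ (x i))⁻¹ * al t x φ * (g * φ (x i)) =
      (φ (x i))⁻¹ * (g⁻¹ * al t x φ * g) * φ (x i) := by group
  have h6 : be t x φ = (φ (x i))⁻¹ * (be t x φ)⁻¹ * φ (x i) := by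
    rw [h4, ← h2]
    calc be t x φ = 1 * be t x φ * 1 := by group
      _ = _ := by rw [← h3]; group
  rw [h5]
  constructor
  · intro hc
    rw [h6] at hc
    have := (Commute.conj_iff (φ (x i))⁻¹ (a := g⁻¹ * al t x φ * g) (b := (be t x φ)⁻¹)).mp (by
      simpa only [inv_inv] using hc)
    exact Commute.inv_right_iff.mp this
  · intro hc
    rw [h6]
    have := (Commute.conj_iff (φ (x i))⁻¹ (a := g⁻¹ * al t x φ * g) (b := (be t x φ)⁻¹)).mpr
      (Commute.inv_right_iff.mpr hc)
    simpa only [inv_inv] using this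

theorem S_word (h : Setup t x φ sgn) {L R : List ℕ} (hL : ∀ i ∈ L, i < 13) (hR : ∀ i ∈ R, i < 13)
    (m : List ℕ) : S t x φ (φ (ev x (L ++ m ++ R))) ↔ S t x φ (φ (ev x m)) := by
  have h1 : ∀ (R : List ℕ), (∀ i ∈ R, i < 13) → ∀ g, S t x φ (g * φ (ev x R)) ↔ S t x φ g := by
    intro R
    induction R with
    | nil => intro _ g; simp
    | cons i R ih =>
      intro hR g
      rw [ev_cons, map_mul, ← mul_assoc, ih (fun j hj => hR j (by simp [hj])),
        h.S_right (hR i (by simp))]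
  have h2 : ∀ (L : List ℕ), (∀ i ∈ L, i < 13) → ∀ g, S t x φ (φ (ev x L) * g) ↔ S t x φ g := by
    intro L
    induction L with
    | nil => intro _ g; simp
    | cons i L ih =>
      intro hL g
      rw [ev_cons, map_mul, mul_assoc, h.S_left (hL i (by simp)),
        ih (fun j hj => hL j (by simp [hj]))]
  rw [ev_append, map_mul, h1 R hR, ev_append, map_mul, h2 L hL]

theorem S_one (h : Setup t x φ sgn) : S t x φ 1 := by
  unfold S
  rw [inv_one, one_mul, mul_one]
  exact h.al_mul_be.trans h.be_mul_al.symm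

theorem S_13 (h : Setup t x φ sgn) : S t x φ (φ (ev x [13])) := by
  unfold S
  rw [ev_cons, ev_nil, mul_one, Square.inv_of_sq (h.uu (i := 13) (by norm_num))]
  exact h.local_comm

theorem S_mid (h : Setup t x φ sgn) (b : Bool) : S t x φ (φ (ev x (midW b))) := by
  cases b with
  | false => exact h.S_13
  | true =>
    obtain ⟨L, R, hL, hR, he⟩ := g0_good h.xrel.cox h.xrel.f3a
    show S t x φ (φ (ev x g0W))
    rw [he, h.S_word hL hR]
    exact h.S_13

theorem S_inv (h : Setup t x φ sgn) (p : P) (hs : S t x φ (φ p)) : S t x φ (φ p)⁻¹ := by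
  unfold S at hs ⊢
  have h1 := h.f_phi p
  have h2 : t 15 * (φ p)⁻¹ = (φ p)⁻¹ * t 15 := by rw [← map_inv]; exact h.f_phi p⁻¹
  have h3 : t 15 * ((φ p)⁻¹ * al t x φ * φ p) * (t 15)⁻¹ = (φ p)⁻¹ * be t x φ * φ p := by
    rw [Square.inv_of_sq h.ff, ← h.f_al]
    calc t 15 * ((φ p)⁻¹ * al t x φ * φ p) * t 15
        = (t 15 * (φ p)⁻¹) * al t x φ * (φ p * t 15) := by group
      _ = _ := by rw [h2, ← h1]; group
  have h4 := (Commute.conj_iff (t 15)).mpr hs
  rw [h3, Square.inv_of_sq h.ff, h.f_be] at h4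
  have h5 := (Commute.conj_iff (φ p)).mpr h4
  have h6 : φ p * ((φ p)⁻¹ * be t x φ * φ p) * (φ p)⁻¹ = be t x φ := by group
  rw [h6] at h5
  rw [inv_inv]
  exact h5.symm

/-- all pairs -/
theorem S_pairs (h : Setup t x φ sgn) : ∀ v ∈ pth, ∀ w ∈ pth, S t x φ (φ (ev x (v ++ w.reverse))) := by
  have lt : ∀ v ∈ pth, ∀ i ∈ v, i < 14 := by decide
  have hrev : ∀ v ∈ pth, ∀ w ∈ pth,
      (φ (ev x (v ++ w.reverse)))⁻¹ = φ (ev x (w ++ v.reverse)) := by
    intro v hv w hw
    rw [← map_inv]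
    congr 1
    rw [ev_append, ev_append, ev_reverse (sq_of_lt h.xrel.cox (lt v hv)),
      ev_reverse (sq_of_lt h.xrel.cox (lt w hw)), mul_inv_rev, inv_inv]
  have hp : pth.Pairwise (fun v w => v ∈ pth ∧ w ∈ pth ∧ GoodPair x v w) := by
    rw [List.pairwise_iff_forall_sublist]
    intro v w hs
    have := hs.subset
    exact ⟨this (by simp), this (by simp),
      List.pairwise_iff_forall_sublist.mp (pair_good h.xrel.cox) hs⟩
  have hp2 : pth.Pairwise (fun v w => S t x φ (φ (ev x (v ++ w.reverse))) ∧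
      S t x φ (φ (ev x (w ++ v.reverse)))) := by
    refine hp.imp ?_
    rintro v w ⟨hv, hw, L, b, R, hL, hR, he⟩
    have h1 : S t x φ (φ (ev x (v ++ w.reverse))) := by
      rw [he, h.S_word hL hR]; exact h.S_mid b
    refine ⟨h1, ?_⟩
    rw [← hrev v hv w hw]
    exact h.S_inv _ h1
  have hsymm : Std.Symm (fun v w : List ℕ => S t x φ (φ (ev x (v ++ w.reverse))) ∧
      S t x φ (φ (ev x (w ++ v.reverse)))) := ⟨fun v w hvw => ⟨hvw.2, hvw.1⟩⟩
  have hdiag : ∀ v ∈ pth, S t x φ (φ (ev x (v ++ v.reverse))) ∧ S t x φ (φ (ev x (v ++ v.reverse))) := by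
    intro v hv
    have : S t x φ (φ (ev x (v ++ v.reverse))) := by
      rw [ev_append, ev_reverse (sq_of_lt h.xrel.cox (lt v hv)), mul_inv_cancel, map_one]
      exact h.S_one
    exact ⟨this, this⟩
  intro v hv w hw
  exact (List.Pairwise.forall_of_forall hdiag hp2 hv hw).1

end Setup

end Cfsg.Agent.Bimonster
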