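import Mathlib

/-!
# Certified reductions of words in (quotients of) simply laced Artin groups

A word is a list of letters `ℕ`; `ev t w` is its value.  A certificate is a list of moves coded by
`3 * position + kind`: kind 0 deletes `i i`, kind 1 swaps two commuting letters, kind 2 replaces `i j i` by `j i j`.
In a group where `t i * t i = z` is central, a reduction of `w` to `w'` with `k` deletions gives
`ev t w = z ^ k * ev t w'`.
-/

set_option autoImplicit false

namespace Cfsg.Agent.Bimonster.Tits

variable {G : Type*} [Group G]

/-- value of a word -/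
def ev (t : ℕ → G) (w : List ℕ) : G := (w.map t).prod

@[simp] theorem ev_nil (t : ℕ → G) : ev t [] = 1 := rfl
@[simp] theorem ev_cons (t : ℕ → G) (i : ℕ) (w : List ℕ) : ev t (i :: w) = t i * ev t w := by
  simp [ev]
theorem ev_append (t : ℕ → G) (w v : List ℕ) : ev t (w ++ v) = ev t w * ev t v := by
  simp [ev]

/-- repetition of a word -/
def rep : ℕ → List ℕ → List ℕ
  | 0, _ => []
  | n + 1, w => w ++ rep n w

theorem ev_rep (t : ℕ → G) (n : ℕ) (w : List ℕ) : ev t (rep n w) = ev t w ^ n := by
  induction n with
  | zero => simp [rep]
  | succ n ih => rw [rep, ev_append, ih, pow_succ']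

theorem map_ev {H : Type*} [Group H] (f : G →* H) (t : ℕ → G) (w : List ℕ) :
    f (ev t w) = ev (fun i => f (t i)) w := by
  induction w with
  | nil => simp
  | cons i w ih => simp [ih]

theorem ev_congr {t s : ℕ → G} {w : List ℕ} (h : ∀ i ∈ w, t i = s i) : ev t w = ev s w := by
  induction w with
  | nil => rfl
  | cons i w ih =>
    rw [ev_cons, ev_cons, h i (by simp), ih fun j hj => h j (by simp [hj])]

/-- which moves are allowed -/
structure Rules where
  /-- `i i` may be deleted -/
  sq : ℕ → Bool
  /-- `i j` may be swapped -/
  cm : ℕ → ℕ → Bool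
  /-- `i j i` may be replaced by `j i j` -/
  br : ℕ → ℕ → Bool

/-- a move at the beginning of the list -/
def head (R : Rules) : ℕ → List ℕ → Option (List ℕ)
  | 0, x :: y :: r => if (Nat.beq x y && R.sq x) = true then some r else none
  | 1, x :: y :: r => if R.cm x y = true then some (y :: x :: r) else none
  | 2, x :: y :: z :: r => if (Nat.beq x z && R.br x y) = true then some (y :: x :: y :: r) else none
  | _, _ => none

/-- a move at a position -/
def step (R : Rules) (k : ℕ) : ℕ → List ℕ → Option (List ℕ)
  | 0, w => head R k w
  | p + 1, x :: w =>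
    match step R k p w with
    | some w' => some (x :: w')
    | none => none
  | _ + 1, [] => none

/-- run a list of moves, counting deletions -/
def run (R : Rules) : List ℕ → ℕ → List ℕ → Option (ℕ × List ℕ)
  | [], n, w => some (n, w)
  | m :: ms, n, w =>
    match step R (m % 3) (m / 3) w with
    | some w' => run R ms (if m % 3 = 0 then n + 1 else n) w'
    | none => none

/-- the relations needed for the moves -/
structure Valid (R : Rules) (t : ℕ → G) (z : G) : Prop where
  sq : ∀ i, R.sq i = true → t i * t i = z
  cm : ∀ i j, R.cm i j = true → t i * t j = t j * t i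
  br : ∀ i j, R.br i j = true → t i * t j * t i = t j * t i * t j
  central : ∀ g : G, z * g = g * z

theorem head_sound {R : Rules} {t : ℕ → G} {z : G} (h : Valid R t z) {k : ℕ} {w w' : List ℕ}
    (hw : head R k w = some w') : ev t w = z ^ (if k = 0 then 1 else 0) * ev t w' := by
  unfold head at hw
  split at hw
  · split_ifs at hw with hc
    rw [Bool.and_eq_true] at hc
    obtain ⟨he, hc⟩ := hc
    obtain rfl := Nat.eq_of_beq_eq_true he
    simp only [Option.some.injEq] at hw
    subst hw
    simp only [ev_cons, ← mul_assoc, h.sq _ hc, if_true, pow_one]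
  · split_ifs at hw with hc
    simp only [Option.some.injEq] at hw
    subst hw
    simp only [ev_cons, ← mul_assoc, h.cm _ _ hc]
    simp
  · split_ifs at hw with hc
    rw [Bool.and_eq_true] at hc
    obtain ⟨he, hc⟩ := hc
    obtain rfl := Nat.eq_of_beq_eq_true he
    simp only [Option.some.injEq] at hw
    subst hw
    simp only [ev_cons, ← mul_assoc, h.br _ _ hc]
    simp
  · exact absurd hw (by simp)

theorem step_sound {R : Rules} {t : ℕ → G} {z : G} (h : Valid R t z) {k p : ℕ} {w w' : List ℕ}
    (hw : step R k p w = some w') : ev t w = z ^ (if k = 0 then 1 else 0) * ev t w' := by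
  induction p generalizing w w' with
  | zero => exact head_sound h hw
  | succ p ih =>
    cases w with
    | nil => simp [step] at hw
    | cons x w =>
      rw [step] at hw
      split at hw
      · rename_i v hv
        simp only [Option.some.injEq] at hw
        subst hw
        rw [ev_cons, ev_cons, ih hv, ← mul_assoc, ← mul_assoc]
        congr 1
        split_ifs
        · rw [pow_one, h.central]
        · simp
      · simp at hw

theorem run_sound {R : Rules} {t : ℕ → G} {z : G} (h : Valid R t z) {ms : List ℕ} {n n' : ℕ}
    {w w' : List ℕ} (hw : run R ms n w = some (n', w')) :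
    z ^ n * ev t w = z ^ n' * ev t w' := by
  induction ms generalizing n w with
  | nil =>
    simp only [run, Option.some.injEq, Prod.mk.injEq] at hw
    rw [hw.1, hw.2]
  | cons m ms ih =>
    rw [run] at hw
    split at hw
    · rename_i v hv
      rw [← ih hw, step_sound h hv, ← mul_assoc]
      congr 1
      split_ifs
      · rw [pow_one, pow_succ]
      · simp
    · simp at hw

/-- a certified reduction of a word to the empty word -/
theorem eq_of_run {R : Rules} {t : ℕ → G} {z : G} (h : Valid R t z) {ms : List ℕ} {n : ℕ}
    {w : List ℕ} (hw : run R ms 0 w = some (n, [])) : ev t w = z ^ n := by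
  have := run_sound h hw
  simpa using this

/-- reversal gives the inverse if the letters are involutions -/
theorem ev_reverse {t : ℕ → G} {w : List ℕ} (h : ∀ i ∈ w, t i * t i = 1) :
    ev t w.reverse = (ev t w)⁻¹ := by
  induction w with
  | nil => simp
  | cons i w ih =>
    rw [List.reverse_cons, ev_append, ih fun j hj => h j (by simp [hj]), ev_cons, ev_cons, ev_nil,
      mul_one, mul_inv_rev]
    congr 1
    exact eq_inv_of_mul_eq_one_left (h i (by simp))

/-- certified equality of two words in involutions -/
theorem eq_of_run_reverse {R : Rules} {t : ℕ → G} (h : Valid R t 1) {ms : List ℕ} {n : ℕ}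
    {w v : List ℕ} (hv : ∀ i ∈ v, t i * t i = 1)
    (hw : run R ms 0 (w ++ v.reverse) = some (n, [])) : ev t w = ev t v := by
  have := eq_of_run h hw
  rw [ev_append, ev_reverse hv, one_pow] at this
  exact mul_inv_eq_one.mp this

end Cfsg.Agent.Bimonster.Tits
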