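import Cfsg.Agent.Bimonster.Certs

/-! # Consequences of the certificates -/

set_option autoImplicit false

namespace Cfsg.Agent.Bimonster

open Tits

variable {G : Type*} [Group G]

theorem allB_lt {l : List ℕ} (h : allB l = true) : ∀ i ∈ l, i < 13 := by
  induction l with
  | nil => simp
  | cons x l ih =>
    rw [allB, Bool.and_eq_true] at h
    intro i hi
    rcases List.mem_cons.mp hi with rfl | hi
    · simpa using h.1
    · exact ih h.2 i hi

theorem nilB_sound {n : ℕ} {x : ℕ → G} (h : CoxRel n x) {c w : List ℕ} (hw : nilB n c w = true) :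
    ev x w = 1 := by
  unfold nilB at hw
  split at hw
  · rename_i k hk
    rw [eq_of_run h.valid hk, one_pow]
  · simp at hw

theorem sq_of_lt {n : ℕ} {x : ℕ → G} (h : CoxRel n x) {w : List ℕ} (hw : ∀ i ∈ w, i < n) :
    ∀ i ∈ w, x i * x i = 1 := fun i hi => h.sq i (hw i hi)

theorem eq_of_nilB {n : ℕ} {x : ℕ → G} (h : CoxRel n x) {c w v : List ℕ}
    (hv : ∀ i ∈ v, i < n) (hw : nilB n c (w ++ v.reverse) = true) : ev x w = ev x v := by
  have := nilB_sound h hw
  rw [ev_append, ev_reverse (sq_of_lt h hv)] at this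
  exact mul_inv_eq_one.mp this

theorem midW_lt (b : Bool) : ∀ i ∈ midW b, i < 14 := by
  cases b <;> decide

/-- good pairs of words -/
def GoodPair (x : ℕ → G) (v w : List ℕ) : Prop :=
  ∃ (L : List ℕ) (b : Bool) (R : List ℕ), (∀ i ∈ L, i < 13) ∧ (∀ i ∈ R, i < 13) ∧
    ev x (v ++ w.reverse) = ev x (L ++ midW b ++ R)

theorem entOk_sound {x : ℕ → G} (h : CoxRel 14 x) {v w : List ℕ} {e : Entry}
    (he : entOk v w e = true) : GoodPair x v w := by
  unfold entOk at he
  rw [Bool.and_eq_true, Bool.and_eq_true] at he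
  obtain ⟨⟨h1, h2⟩, h3⟩ := he
  have h1' := allB_lt h1
  have h2' := allB_lt h2
  refine ⟨e.1, e.2.1, e.2.2.1, h1', h2', eq_of_nilB h ?_ h3⟩
  intro i hi
  rw [List.mem_append, List.mem_append] at hi
  rcases hi with (hi | hi) | hi
  · exact lt_trans (h1' i hi) (by norm_num)
  · exact midW_lt _ i hi
  · exact lt_trans (h2' i hi) (by norm_num)

theorem rowOk_sound {x : ℕ → G} (h : CoxRel 14 x) {v : List ℕ} {ws : List (List ℕ)}
    {es : List Entry} (he : rowOk v ws es = true) : ∀ w ∈ ws, GoodPair x v w := by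
  induction ws generalizing es with
  | nil => simp
  | cons w ws ih =>
    cases es with
    | nil => simp [rowOk] at he
    | cons e es =>
      rw [rowOk, Bool.and_eq_true] at he
      intro u hu
      rcases List.mem_cons.mp hu with rfl | hu
      · exact entOk_sound h he.1
      · exact ih he.2 u hu

theorem tabOk_sound {x : ℕ → G} (h : CoxRel 14 x) {vs : List (List ℕ)} {t : List (List Entry)}
    (he : tabOk vs t = true) : vs.Pairwise (GoodPair x) := by
  induction vs generalizing t with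
  | nil => simp
  | cons v vs ih =>
    cases t with
    | nil => simp [tabOk] at he
    | cons r t =>
      rw [tabOk, Bool.and_eq_true] at he
      rw [List.pairwise_cons]
      exact ⟨rowOk_sound h he.1, ih he.2⟩

theorem pair_good {x : ℕ → G} (h : CoxRel 14 x) : pth.Pairwise (GoodPair x) :=
  tabOk_sound h pairTab_ok

theorem f3a_lt : ∀ i ∈ f3a, i < 14 := by decide

theorem g0_good {x : ℕ → G} (h : CoxRel 14 x) (h3 : ev x f3a ^ 9 = 1) :
    ∃ L R : List ℕ, (∀ i ∈ L, i < 13) ∧ (∀ i ∈ R, i < 13) ∧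
      ev x g0W = ev x (L ++ [13] ++ R) := by
  have hk := g0_ok
  rw [Bool.and_eq_true, Bool.and_eq_true] at hk
  obtain ⟨⟨h1, h2⟩, h4⟩ := hk
  have h1' := allB_lt h1
  have h2' := allB_lt h2
  refine ⟨g0L, g0R, h1', h2', ?_⟩
  have := eq_of_nilB h (v := g0L ++ [13] ++ g0R) (by
    intro i hi
    rw [List.mem_append, List.mem_append] at hi
    rcases hi with (hi | hi) | hi
    · exact lt_trans (h1' i hi) (by norm_num)
    · rw [List.mem_singleton] at hi; omega
    · exact lt_trans (h2' i hi) (by norm_num)) h4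
  rw [← this, ev_append, ev_rep, h3, mul_one]

theorem a4_good {x : ℕ → G} (h : CoxRel 14 x) :
    ∀ k < 14, ∃ v L : List ℕ, v ∈ pth ∧ v ++ [k] ∈ pth ∧ (∀ i ∈ L, i < 13) ∧
      ev x (v ++ [k] ++ v.reverse) = ev x (L ++ [13] ++ L.reverse) := by
  have hk := a4Tab_ok
  rw [Bool.and_eq_true, decide_eq_true_eq, List.all_eq_true] at hk
  obtain ⟨h1, h2⟩ := hk
  intro k hk
  have : k ∈ a4Tab.map (·.1) := by rw [h2]; exact List.mem_range.mpr hk
  obtain ⟨e, he, rfl⟩ := List.mem_map.mp this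
  have h3 := h1 e he
  unfold a4Ok at h3
  rw [Bool.and_eq_true, Bool.and_eq_true, Bool.and_eq_true, List.contains_iff_mem,
    List.contains_iff_mem] at h3
  obtain ⟨⟨⟨ha, hb⟩, hc⟩, hd⟩ := h3
  have hc' := allB_lt hc
  refine ⟨e.2.1, e.2.2.1, ha, hb, hc', eq_of_nilB h ?_ hd⟩
  intro i hi
  rw [List.mem_append, List.mem_append] at hi
  rcases hi with (hi | hi) | hi
  · exact lt_trans (hc' i hi) (by norm_num)
  · rw [List.mem_singleton] at hi; omega
  · exact lt_trans (hc' i (List.mem_reverse.mp hi)) (by norm_num)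

theorem sp_good {x : ℕ → G} (h : CoxRel 14 x) :
    ∃ g k : G, ev x spW ^ 10 * (g * ev x spW ^ 10 * g⁻¹) * (k * ev x spW ^ 10 * k⁻¹) = 1 := by
  refine ⟨ev x spG, ev x spH, ?_⟩
  have h1 := eq_of_run h.valid sp_ok
  rw [one_pow] at h1
  rw [ev_append, ev_append, ev_append, ev_append, ev_append, ev_append, ev_rep,
    ev_reverse (sq_of_lt h (by decide)), ev_reverse (sq_of_lt h (by decide))] at h1
  simpa only [mul_assoc] using h1

theorem cx_good {x : ℕ → G} {z : G} (h : ArtRel 14 x z) : (ev x f3a ^ 9) ^ 2 = z ^ 63 := by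
  have := eq_of_run h.valid cx_ok
  rw [ev_rep] at this
  rw [← pow_mul]
  exact this

theorem fiA_good {x : ℕ → G} (h : CoxRel 14 x) :
    ev x f3a ^ 9 = ev x [13, 12, 11, 0, 1, 2, 6] ^ 9 := by
  rw [← ev_rep, ← ev_rep]
  exact eq_of_nilB h (by decide) fiA_ok

theorem fiB_good {x : ℕ → G} (h : CoxRel 14 x) :
    ev x f3b ^ 9 = ev x [13, 12, 11, 0, 6, 7, 1] ^ 9 := by
  rw [← ev_rep, ← ev_rep]
  exact eq_of_nilB h (by decide) fiB_ok

end Cfsg.Agent.Bimonster
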